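import Cfsg.Agent.TransUnique.U.Triangle

/-!
# The complement in dimension five

Over each point there is exactly one member `δ` such that `δ R δ` commutes with the rotation `R`;
these members generate a complement of the kernel.
-/

set_option autoImplicit false
set_option linter.unusedSectionVars false

open Cfsg Cfsg.Agent.Classical Cfsg.Agent.Classical.Herm Module
open scoped IsMulCommutative

namespace Cfsg.Agent.TransUnique.UG

variable {F V : Type*} [Field F] [AddCommGroup V] [Module F V] {θ : F →+* F}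
  {B : V →ₛₗ[θ] V →ₗ[F] F}

section Space

variable (hB : USp B) (h5 : finrank F V = 5)
include hB

theorem rot_conj_apply {q : V} {R : suG B} (hR : ∀ x, R.1 x = om hB • x + B q x • q) (v : Pt B)
    (x : V) : (tr hB v * R * tr hB v).1 x =
      om hB • x + B ((tr hB v).1 q) x • (tr hB v).1 q := by
  set T := tr hB v
  have hTT : T.1 (T.1 x) = x := congrArg (fun g : suG B => g.1 x) (tr_sq hB v)
  show T.1 (R.1 (T.1 x)) = _
  rw [hR, map_add, map_smul, map_smul, hTT]
  congr 2
  conv_rhs => rw [← hTT]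
  rw [T.2.1]

theorem rot_commute_tr {q : V} {R : suG B} (hR : ∀ x, R.1 x = om hB • x + B q x • q) {v : Pt B}
    (h : B q v.1 = 0) : Commute R (tr hB v) := by
  obtain ⟨u, hu⟩ := exists_image hB R v
  have h1 := tr_conj hB R hu
  rw [(tr_eq_iff hB v u).2 ⟨om hB, by rw [hu, hR, h, zero_smul, add_zero]⟩ |>.symm,
    mul_inv_eq_iff_eq_mul] at h1
  exact h1

theorem rot_commute_rot {q r : V} {R R' : suG B} (hR : ∀ x, R.1 x = om hB • x + B q x • q)
    (hR' : ∀ x, R'.1 x = om hB • x + B r x • r) (h : B q r = 0) : Commute R R' :=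
  ext_suG hB fun x => by
    show R.1 (R'.1 x) = R'.1 (R.1 x)
    simp [hR, hR', h, (symm_zero hB).1 h, smul_smul]
    module

theorem moved_unit {q : V} (hqq : B q q = 1) (v : Pt B) :
    B ((tr hB v).1 q) ((tr hB v).1 q) = 1 := by rw [(tr hB v).2.1, hqq]

theorem moved_orth {q : V} (hqq : B q q = 1) (v : Pt B) (h : B q v.1 ≠ 0) :
    B q ((tr hB v).1 q) = 0 := by
  rw [tr_apply, map_add, map_smul, hqq, smul_eq_mul, ← hB.herm.symm q v.1, mul_comm,
    norm_one hB h, UG.two hB]

include h5

/-- A unit vector perpendicular to two orthogonal ones and to an isotropic one. -/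
theorem exists_unit_three {q r p : V} (hqq : B q q = 1) (hrr : B r r = 1) (hqr : B q r = 0)
    (hqp : B q p ≠ 0) (hrp : B r p ≠ 0) (hpp : B p p = 0) :
    ∃ s, B s s = 1 ∧ B q s = 0 ∧ B r s = 0 ∧ B s p = 0 := by
  have := hB.fin; have := hB.finF
  have hON : Herm.IsON B ![q, r] := fun i j => by
    fin_cases i <;> fin_cases j <;> simp [hqq, hrr, hqr, (symm_zero hB).1 hqr]
  obtain ⟨b, hb, hba⟩ := Herm.exists_extend hB.herm 3 (k := 2) (by omega) hON
  have e0 : b 0 = q := hba 0
  have e1 : b 1 = r := hba 1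
  subst e0 e1
  have fin : ∀ i : Fin 5, i ≠ 0 → i ≠ 1 → B (b i) p = 0 →
      ∃ s, B s s = 1 ∧ B (b 0) s = 0 ∧ B (b 1) s = 0 ∧ B s p = 0 := fun i h0 h1 hi =>
    ⟨b i, by rw [hb, if_pos rfl], by rw [hb, if_neg h0.symm], by rw [hb, if_neg h1.symm], hi⟩
  by_cases h2 : B (b 2) p = 0
  · exact fin 2 (by decide) (by decide) h2
  by_cases h3 : B (b 3) p = 0
  · exact fin 3 (by decide) (by decide) h3
  by_cases h4 : B (b 4) p = 0
  · exact fin 4 (by decide) (by decide) h4
  exfalso
  have hspan : Submodule.span F (Set.range b) = ⊤ :=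
    (hb.linearIndependent hB.herm).span_eq_top_of_card_eq_finrank' (by rw [Fintype.card_fin, h5])
  obtain ⟨c, hc⟩ := (Submodule.mem_span_range_iff_exists_fun F).1 (hspan ▸ Submodule.mem_top : p ∈ _)
  have hci : ∀ i, B (b i) p = c i := fun i => by
    rw [← hc]; simp [map_sum, hb i]
  have hn : B p p = ∑ i, θ (c i) * c i := by
    conv_lhs => arg 1; rw [← hc]
    simp [map_sum, LinearMap.sum_apply, hci]
  have key : ∀ i, B (b i) p ≠ 0 → θ (c i) * c i = 1 := fun i hi => by
    rw [mul_comm]; exact norm_one hB (by rwa [← hci])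
  rw [hpp, Fin.sum_univ_five, key 0 hqp, key 1 hrp, key 2 h2, key 3 h3, key 4 h4, UG.two hB,
    zero_add, UG.two hB, zero_add] at hn
  exact zero_ne_one hn

end Space

variable {G : Type*} [Group G] [Finite G] {D : Set G} {π : G →* suG B}
  {W : Subgroup G} [W.Normal] [IsMulCommutative W]

/-- The standing hypotheses. -/
structure Five (S : Sect D π W) : Prop where
  dim : finrank F V = 5
  comm : ∀ a b, π a = 1 → π b = 1 → Commute a b
  exp : ∀ a, π a = 1 → a * a = 1
  center : Subgroup.center G = ⊥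

variable {S : Sect D π W} (H : Five S)
include H

theorem Five.fix {q : V} (hqq : B q q = 1) {g a : G} (hg : IsRot S.cov.sp π q g) (ha : π a = 1)
    (hga : Commute g a) : a = 1 := S.fix_rot H.dim H.comm H.center hqq hg ha hga

theorem Five.eq_of_comm {q : V} (hqq : B q q = 1) {g h h' : G} (hg : IsRot S.cov.sp π q g)
    (hh : Commute h g) (hh' : Commute h' g) (he : π h = π h') : h = h' := by
  have := H.fix hqq hg (a := h⁻¹ * h') (by rw [map_mul, map_inv, he, inv_mul_cancel])
    ((hh.inv_left.mul_left hh').symm)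
  exact inv_mul_eq_one.1 this

theorem Five.comm_of_images {q : V} (hqq : B q q = 1) {g h h' : G} (hg : IsRot S.cov.sp π q g)
    (hh : Commute h g) (hh' : Commute h' g) (he : Commute (π h) (π h')) : Commute h h' :=
  H.eq_of_comm hqq hg (hh.mul_left hh') (hh'.mul_left hh) (by rw [map_mul, map_mul, he.eq])

theorem Five.exists_conj {q : V} (hqq : B q q = 1) {g h : G} (hg : IsRot S.cov.sp π q g)
    (he : π h = π g) : ∃ a, π a = 1 ∧ a * g * a⁻¹ = h := by
  let φ : π.ker → π.ker := fun a => ⟨(a : G) * g * (a : G)⁻¹ * g⁻¹, by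
    rw [MonoidHom.mem_ker, map_mul, map_mul, map_mul, map_inv, map_inv, MonoidHom.mem_ker.1 a.2]
    group⟩
  have hinj : Function.Injective φ := by
    intro a b hab
    have h1 : (a : G) * g * (a : G)⁻¹ = (b : G) * g * (b : G)⁻¹ :=
      mul_right_cancel (congrArg Subtype.val hab)
    have := H.fix hqq hg (a := (b : G)⁻¹ * a)
      (by rw [map_mul, map_inv, MonoidHom.mem_ker.1 a.2, MonoidHom.mem_ker.1 b.2, inv_one, one_mul])
      (show g * ((b : G)⁻¹ * a) = (b : G)⁻¹ * a * g from
        calc g * ((b : G)⁻¹ * a) = (b : G)⁻¹ * ((b : G) * g * (b : G)⁻¹) * a := by group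
          _ = (b : G)⁻¹ * a * g := by rw [← h1]; group)
    exact (Subtype.ext (inv_mul_eq_one.1 this)).symm
  obtain ⟨⟨a, ha⟩, hφ⟩ := (Finite.injective_iff_surjective.1 hinj) ⟨h * g⁻¹, by
    rw [MonoidHom.mem_ker, map_mul, map_inv, he, mul_inv_cancel]⟩
  exact ⟨a, ha, mul_right_cancel (congrArg Subtype.val hφ)⟩

theorem Five.exists_lift_comm {q : V} (hqq : B q q = 1) {g : G} (hg : IsRot S.cov.sp π q g)
    (s : suG B) (hs : Commute s (π g)) : ∃ h, π h = s ∧ Commute h g := by
  obtain ⟨h, rfl⟩ := S.cov.surj s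
  obtain ⟨a, ha, he⟩ := H.exists_conj hqq hg (h := h * g * h⁻¹)
    (by rw [map_mul, map_mul, map_inv, hs.eq, mul_inv_cancel_right])
  refine ⟨a⁻¹ * h, by rw [map_mul, map_inv, ha, inv_one, one_mul], ?_⟩
  show a⁻¹ * h * g = g * (a⁻¹ * h)
  rw [show g * (a⁻¹ * h) = a⁻¹ * (a * g * a⁻¹) * h by group, he]
  group

/-- A member over the point of `d`: the twist by a suitable element of the kernel. -/
theorem Five.member_of {d df Z a : G} (hd : d ∈ D) (hdf : df ∈ D) {v w : Pt B}
    (hv : π d = tr S.cov.sp v) (hw : π df = tr S.cov.sp w) (hvw : B w.1 v.1 ≠ 0) (ha : π a = 1)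
    (hg : a * d * (a * d) = 1) (hZ : Commute Z (a * d)) (hZd : Commute (π Z) (π d))
    (hZf : Commute (π Z) (π df))
    (key : ∀ x : G, π x = 1 → Commute Z x → Commute d x → Commute df x → x = 1) : a * d ∈ D := by
  have C := S.cov
  have : IsMulCommutative π.ker := IsMulCommutative.of_comm fun x y =>
    Subtype.ext (H.comm x y x.2 y.2)
  have R := rel_of_class (V := π.ker) (S := D) (fun x hx => H.exp x hx) C.cls
  have hrep : ∀ {g h : G}, π g = π h → ∀ m, rep π.ker g m = rep π.ker h m := fun {g h} he m => by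
    have hk : h⁻¹ * g ∈ π.ker :=
      MonoidHom.mem_ker.2 (by rw [map_mul, map_inv, he, inv_mul_cancel])
    conv_lhs => rw [← mul_inv_cancel_left h g, rho_mul_apply, rep_of_mem hk]
  have hsw : ∀ {g h : G}, Commute (π g) (π h) → ∀ m,
      rep π.ker g (rep π.ker h m) = rep π.ker h (rep π.ker g m) := fun {g h} he m => by
    rw [← rho_mul_apply, ← rho_mul_apply]
    exact hrep (by rw [map_mul, map_mul, he.eq]) m
  obtain ⟨m, hm⟩ := exists_incl (V := π.ker) (MonoidHom.mem_ker.2 ha)
  set X := op (rep π.ker) d with hX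
  set Y := op (rep π.ker) df with hY
  set σ := rep π.ker Z with hσ
  have hXm : X m = 0 := by
    rw [hX, op_apply, ← incl_eq_one, incl_add, incl_rep, hm, C.inv hd]
    calc d * a * d * a = a⁻¹ * (a * d * (a * d)) * a := by group
      _ = 1 := by rw [hg]; group
  have hσX : ∀ n, σ (X n) = X (σ n) := fun n => by
    simp only [hX, op_apply, map_add, hσ, hsw hZd]
  have hσY : ∀ n, σ (Y n) = Y (σ n) := fun n => by
    simp only [hY, op_apply, map_add, hσ, hsw hZf]
  -- `Z` moves `a` by a quotient of mates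
  obtain ⟨y, hy, hy'⟩ := C.mate S.core hd (C.conj Z hd) hv
    (by rw [map_mul, map_mul, map_inv, hZd.eq, mul_inv_cancel_right, hv])
  obtain ⟨n, hn⟩ := exists_incl (V := π.ker) (MonoidHom.mem_ker.2 hy)
  have hσm : σ m = m + X n := by
    apply Additive.toMul.injective
    apply Subtype.ext
    show incl π.ker (σ m) = incl π.ker (m + X n)
    rw [hσ, hX, incl_add, incl_rep, op_apply, incl_add, incl_rep, hm, hn, C.inv hd]
    calc Z * a * Z⁻¹ = (Z * (a * d) * Z⁻¹) * (Z * d * Z⁻¹)⁻¹ := by group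
      _ = a * d * (y * d⁻¹ * y⁻¹) := by rw [hZ.eq, ← hy']; group
      _ = a * (d * y * d * y) := by
        rw [C.inv hd, inv_eq_of_mul_eq_one_left (H.exp y hy)]; group
  have hXYX : ∀ u, X (Y (X u)) = X u := R.ncomm d hd df hdf
    (C.not_commute hv hw fun h => hvw ((symm_zero S.cov.sp).1 h))
  have hYXY : ∀ u, Y (X (Y u)) = Y u := R.ncomm df hdf d hd (C.not_commute hw hv hvw)
  set x := m + X (Y m) with hx
  have h1 : σ x = x := by
    rw [hx, map_add, hσX, hσY, hσm, map_add Y, map_add X, hXYX,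
      show m + X n + (X (Y m) + X n) = m + X (Y m) + (X n + X n) by abel, R.two, add_zero]
  have h2 : X x = 0 := by rw [hx, map_add, hXm, R.sq hd, add_zero]
  have h3 : Y x = 0 := by rw [hx, map_add, hYXY, R.two]
  have hcomm : ∀ g : G, rep π.ker g x = x → Commute g (incl π.ker x) := fun g he => by
    have := congrArg (incl π.ker) he
    rw [incl_rep] at this
    exact mul_inv_eq_iff_eq_mul.1 this
  have hx0 : x = 0 := incl_eq_one.1 (key _ (MonoidHom.mem_ker.1 (incl_mem x)) (hcomm Z h1)
    (hcomm d (by rw [R.rho_eq, ← hX, h2, zero_add])) (hcomm df (by rw [R.rho_eq, ← hY, h3, zero_add])))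
  -- so `a` is a quotient of mates
  obtain ⟨z, hz⟩ : ∃ z, Y m = z := ⟨_, rfl⟩
  have hmz : m = X z := R.eq_of_add (by rw [← hz]; exact hx0)
  have haz : a = d * incl π.ker z * d * incl π.ker z := by
    rw [← hm, hmz, hX, op_apply, incl_add, incl_rep, C.inv hd]
  have hzk : π (incl π.ker z) = 1 := MonoidHom.mem_ker.1 (incl_mem z)
  have hfin : a * d = incl π.ker z * d * (incl π.ker z)⁻¹ := by
    have e : a = a⁻¹ := (inv_eq_of_mul_eq_one_left (H.exp a ha)).symm
    rw [e, haz]
    calc (d * incl π.ker z * d * incl π.ker z)⁻¹ * d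
        = (incl π.ker z)⁻¹ * d⁻¹ * (incl π.ker z)⁻¹ * (d⁻¹ * d) := by group
      _ = _ := by rw [C.inv hd, inv_eq_of_mul_eq_one_left (H.exp _ hzk), C.sq hd, mul_one]
  rw [hfin]
  exact C.conj _ hd

omit H in
/-- The member respects the rotation. -/
def GoodMember (D : Set G) (g δ : G) : Prop := δ ∈ D ∧ Commute (δ * g * δ) g

omit H in
theorem rot_conj {q : V} {g d : G} {v : Pt B} (S : Sect D π W) (hg : IsRot S.cov.sp π q g)
    (hv : π d = tr S.cov.sp v) : IsRot S.cov.sp π ((tr S.cov.sp v).1 q) (d * g * d) := fun x => by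
  rw [map_mul, map_mul, hv]
  exact rot_conj_apply S.cov.sp hg v x

theorem Five.good_unique {q : V} (hqq : B q q = 1) {g δ δ' : G} (hg : IsRot S.cov.sp π q g)
    (h : GoodMember D g δ) (h' : GoodMember D g δ') (he : π δ = π δ') : δ = δ' := by
  have C := S.cov
  have e : δ * g * δ = δ' * g * δ' :=
    H.eq_of_comm hqq hg h.2 h'.2 (by simp only [map_mul, he])
  have := H.fix hqq hg (a := δ' * δ) (by rw [map_mul, he, ← map_mul, C.sq h'.1, map_one])
    (show g * (δ' * δ) = δ' * δ * g from calc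
      g * (δ' * δ) = δ' * (δ' * g * δ') * δ := by
        rw [show δ' * (δ' * g * δ') = δ' * δ' * g * δ' by group, C.sq h'.1, one_mul]; group
      _ = δ' * (δ * g * δ) * δ := by rw [e]
      _ = δ' * δ * g * (δ * δ) := by group
      _ = δ' * δ * g := by rw [C.sq h.1, mul_one])
  rw [← C.inv h.1]
  exact inv_eq_of_mul_eq_one_left this

theorem Five.exists_good {q : V} (hqq : B q q = 1) {g : G} (hg : IsRot S.cov.sp π q g) (v : Pt B) :
    ∃ δ, GoodMember D g δ ∧ π δ = tr S.cov.sp v := by
  have hB := S.cov.sp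
  have hc := charTwo hB
  have C := S.cov
  obtain ⟨d, hd, hdv⟩ := C.exists_member v
  suffices hex : ∃ a, π a = 1 ∧ a * d ∈ D ∧ Commute (a * d * g * (a * d)) g by
    obtain ⟨a, ha, hm, hgood⟩ := hex
    exact ⟨a * d, ⟨hm, hgood⟩, by rw [map_mul, ha, one_mul, hdv]⟩
  have hdgd : ∀ a : G, a * (d * g * d) * a⁻¹ = a * d * g * (a * d)⁻¹ := fun a => by
    rw [mul_inv_rev, C.inv hd]; group
  by_cases hqv : B q v.1 = 0
  · obtain ⟨f, n, e, hF⟩ := exists_fr_of_point hB H.dim v.2.1 v.2.2 hqq hqv
    obtain ⟨df, hdf, hw⟩ := C.exists_member ⟨f, hF.pair.right_ne hB, hF.pair.ff⟩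
    have himg : π (d * g * d) = π g := by
      rw [map_mul, map_mul, hdv, ← (rot_commute_tr hB hg hqv).eq, mul_assoc, tr_sq, mul_one]
    obtain ⟨a, ha, hconj⟩ := H.exists_conj hqq (g := d * g * d)
      (h := g) (fun x => by rw [himg]; exact hg x) himg.symm
    rw [hdgd] at hconj
    have hcg : Commute (a * d) g := mul_inv_eq_iff_eq_mul.1 hconj
    have hsq : a * d * (a * d) = 1 := H.fix hqq hg
      (by simp only [map_mul, ha, one_mul]; rw [← map_mul, C.sq hd, map_one])
      (hcg.mul_left hcg).symm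
    refine ⟨a, ha, H.member_of hd hdf hdv hw (by rw [hF.pair.fp hB]; exact one_ne_zero) ha hsq
      hcg.symm (by rw [hdv]; exact rot_commute_tr hB hg hqv) (by
        rw [hw]; exact rot_commute_tr hB hg ((hF.hq.left hB).2))
      (fun x hx hgx _ _ => H.fix hqq hg hx hgx), ?_⟩
    rw [show a * d * g * (a * d) = g * (a * d * (a * d)) by rw [hcg.eq]; group, hsq, mul_one]
  -- scale the point
  set k := (B q v.1)⁻¹ with hk
  set v' : Pt B := ⟨k • v.1, smul_ne_zero (inv_ne_zero hqv) v.2.1, by simp [v.2.2]⟩ with hv'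
  have hdv' : π d = tr hB v' := hdv.trans ((tr_eq_iff hB v v').2 ⟨k, rfl⟩)
  set p := v'.1 with hp
  have hpp : B p p = 0 := v'.2.2
  have hqp : B q p = 1 := by simp [hp, hv', hk, hqv]
  have hpq : B p q = 1 := symm_one hB hqp
  set q₁ := q + p with hq₁
  have hq₁' : (tr hB v').1 q = q₁ := by rw [tr_apply, ← hp, hpq, one_smul]
  have hq₁q₁ : B q₁ q₁ = 1 := hq₁' ▸ moved_unit hB hqq v'
  have horth : B q q₁ = 0 := by rw [hq₁, map_add, hqq, hqp, UG.two hB]
  set f := q + om hB • p with hf
  have hpf : B p f = 1 := by simp [hf, hpq, hpp]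
  have hff : B f f = 0 := by
    simp [hf, hqq, hqp, hpq, hpp, om_conj hB]
    grind
  have hf0 : f ≠ 0 := fun h => by rw [h, map_zero] at hpf; exact zero_ne_one hpf
  obtain ⟨df, hdf, hw⟩ := C.exists_member ⟨f, hf0, hff⟩
  have hR₁ : IsRot hB π q₁ (d * g * d) := hq₁' ▸ rot_conj S hg hdv'
  obtain ⟨h, hh, hhg⟩ := H.exists_lift_comm hqq hg (π (d * g * d))
    ((rot_commute_rot hB hg hR₁ horth).symm)
  have hRh : IsRot hB π q₁ h := fun x => by rw [hh]; exact hR₁ x
  obtain ⟨a, ha, hconj⟩ := H.exists_conj hq₁q₁ hR₁ hh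
  rw [hdgd] at hconj
  set δ := a * d with hδ
  have hδπ : π δ = π d := by rw [hδ, map_mul, ha, one_mul]
  have hback : δ * h * δ⁻¹ = g := by
    refine H.eq_of_comm hq₁q₁ hRh ?_ hhg.symm ?_
    · have e := (commute_conj_iff' δ h g).2 hhg
      rwa [hconj] at e
    · rw [map_mul, map_mul, map_inv, hδπ, hh, map_mul, map_mul, hdv', inv_eq_of_mul_eq_one_left (tr_sq hB v')]
      simp only [← mul_assoc, tr_sq, one_mul]
      rw [mul_assoc, tr_sq, mul_one]
  have hsq : δ * δ = 1 := H.fix hqq hg
    (by rw [map_mul, hδπ, ← map_mul, C.sq hd, map_one])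
    (show g * (δ * δ) = δ * δ * g from calc
      g * (δ * δ) = δ * h * δ⁻¹ * (δ * δ) := by rw [hback]
      _ = δ * (δ * g * δ⁻¹) * δ := by rw [hconj]; group
      _ = δ * δ * g := by group)
  have hδi : δ⁻¹ = δ := inv_eq_of_mul_eq_one_left hsq
  have hZ : Commute (g * h) δ := by
    show g * h * δ = δ * (g * h)
    calc g * h * δ = (δ * h * δ⁻¹) * (δ * g * δ⁻¹) * δ := by rw [hback, hconj]
      _ = δ * (h * g) := by group
      _ = δ * (g * h) := by rw [hhg.eq]
  refine ⟨a, ha, H.member_of hd hdf hdv' hw ?_ ha hsq hZ ?_ ?_ ?_, ?_⟩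
  · show B f p ≠ 0
    rw [symm_one hB hpf]; exact one_ne_zero
  · rw [hdv']
    exact commute_of_fix hB _ v' (by
      show (π (g * h)).1 p = p
      rw [map_mul]
      show (π g).1 ((π h).1 p) = p
      rw [hRh, hg]
      simp [hq₁, hqp, hpp, hqq, hpq]
      match_scalars
      all_goals grind [om_sq hB])
  · rw [hw]
    exact commute_of_fix hB _ _ (by
      show (π (g * h)).1 f = f
      rw [map_mul]
      show (π g).1 ((π h).1 f) = f
      rw [hRh, hg]
      simp [hq₁, hf, hqp, hpp, hqq, hpq]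
      match_scalars
      all_goals grind [om_sq hB])
  · intro x hx hZx hdx hfx
    -- the two members over the line give the quotient of the two rotations
    have himg : π g = π (h * (df * d)) := ext_suG hB fun y => by
      rw [map_mul, map_mul, hdv', hw]
      show _ = (π h).1 ((tr hB _).1 ((tr hB v').1 y))
      rw [hRh, hg, tr_apply, tr_apply, ← hp]
      clear_value p
      simp [hq₁, hf, hqp, hpp, hqq, hpq, om_conj hB]
      match_scalars
      all_goals grind [om_sq hB]
    -- so `x` commutes with the square of `g`, whose cube is in the kernel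
    have hxk : ∀ z, π z = 1 → Commute z x := fun z hz => H.comm z x hz hx
    have hgh : Commute (h⁻¹ * g) x := by
      rw [show h⁻¹ * g = df * d * ((df * d)⁻¹ * h⁻¹ * g) by group]
      refine (hfx.mul_left hdx).mul_left (hxk _ ?_)
      simp only [map_mul, map_inv, himg]
      group
    have hg2 : Commute (g * g) x := by
      rw [show g * g = (g * h) * (h⁻¹ * g) by group]
      exact hZx.mul_left hgh
    have hg3 : π (g * g * g) = 1 := ext_suG hB fun y => by
      rw [map_mul, map_mul]
      show (π g).1 ((π g).1 ((π g).1 y)) = y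
      rw [hg, hg, hg]
      simp [hqq]
      match_scalars
      all_goals grind [om_sq hB]
    refine H.fix hqq hg hx ?_
    rw [show g = (g * g)⁻¹ * (g * g * g) by group]
    exact hg2.inv_left.mul_left (hxk _ hg3)
  · rw [show δ * g * δ = δ * g * δ⁻¹ by rw [hδi], hconj]
    exact hhg

/-- Orthogonal commuting rotations have the same good members. -/
theorem Five.good_switch {q r : V} (hqq : B q q = 1) (hrr : B r r = 1) (hqr : B q r = 0) {g h : G}
    (hg : IsRot S.cov.sp π q g) (hh : IsRot S.cov.sp π r h) (hgh : Commute g h) {δ : G}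
    (hδ : GoodMember D g δ) : GoodMember D h δ := by
  have hB := S.cov.sp
  have C := S.cov
  -- the two easy cases
  have base : ∀ {q r : V}, B q q = 1 → B r r = 1 → B q r = 0 → ∀ {g h : G}, IsRot hB π q g →
      IsRot hB π r h → Commute g h → GoodMember D g δ → ∀ v : Pt B, π δ = tr hB v →
      (B q v.1 = 0 ∨ B r v.1 = 0) → GoodMember D h δ := by
    clear hqq hrr hqr hg hh hgh hδ q r g h
    intro q r hqq hrr hqr g h hg hh hgh hδ v hv hcase
    have hδ2 := C.sq hδ.1
    have hδi := C.inv hδ.1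
    refine ⟨hδ.1, ?_⟩
    have hq' := rot_conj S hg hv
    have hr' := rot_conj S hh hv
    by_cases hqv : B q v.1 = 0
    · have e : δ * g * δ = g := H.eq_of_comm hqq hg hδ.2 (Commute.refl g) (by
        rw [map_mul, map_mul, hv, ← (rot_commute_tr hB hg hqv).eq, mul_assoc, tr_sq, mul_one])
      have hc : Commute (δ * h * δ) g := by
        have e' := (commute_conj_iff' δ h g).2 hgh.symm
        rwa [hδi, e] at e'
      refine H.comm_of_images hqq hg hc hgh.symm ?_
      by_cases hrv : B r v.1 = 0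
      · rw [map_mul, map_mul, hv, ← (rot_commute_tr hB hh hrv).eq, mul_assoc, tr_sq, mul_one]
      · exact rot_commute_rot hB hr' hh ((symm_zero hB).1 (moved_orth hB hrr v hrv))
    · have hrv := hcase.resolve_left hqv
      have horth : B ((tr hB v).1 q) r = 0 := by
        have hvr := (symm_zero hB).1 hrv
        rw [tr_apply, map_add, LinearMap.add_apply, map_smulₛₗ, LinearMap.smul_apply, hqr, hvr]
        simp
      have hc : Commute (δ * g * δ) h := H.comm_of_images hqq hg hδ.2 hgh.symm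
        (rot_commute_rot hB hq' hh horth)
      have hc' : Commute (δ * h * δ) g := by
        have e' := (commute_conj_iff' δ h (δ * g * δ)).2 hc.symm
        rwa [hδi, show δ * (δ * g * δ) * δ = δ * δ * g * (δ * δ) by group, hδ2, one_mul, mul_one]
          at e'
      refine H.comm_of_images hqq hg hc' hgh.symm ?_
      rw [map_mul, map_mul, hv, ← (rot_commute_tr hB hh hrv).eq, mul_assoc, tr_sq, mul_one]
  obtain ⟨v, hv⟩ := C.exists_point hδ.1
  by_cases hqv : B q v.1 = 0
  · exact base hqq hrr hqr hg hh hgh hδ v hv (Or.inl hqv)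
  by_cases hrv : B r v.1 = 0
  · exact base hqq hrr hqr hg hh hgh hδ v hv (Or.inr hrv)
  obtain ⟨s, hss, hqs, hrs, hsv⟩ := exists_unit_three hB H.dim hqq hrr hqr hqv hrv v.2.2
  obtain ⟨k₀, hk₀⟩ := S.exists_lift_rot H.dim hss
  obtain ⟨k, hk, hkg⟩ := H.exists_lift_comm hqq hg (π k₀) (rot_commute_rot hB hg hk₀ hqs).symm
  have hk' : IsRot hB π s k := fun x => by rw [hk]; exact hk₀ x
  have hkh : Commute k h := H.comm_of_images hqq hg hkg hgh.symm
    (rot_commute_rot hB hk' hh ((symm_zero hB).1 hrs))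
  exact base hss hrr ((symm_zero hB).1 hrs) hk' hh hkh
    (base hqq hss hqs hg hk' hkg.symm hδ v hv (Or.inr hsv)) v hv (Or.inl hsv)

theorem Five.good_conj {q : V} (hqq : B q q = 1) {g ε δ : G} (hg : IsRot S.cov.sp π q g)
    (hε : GoodMember D g ε) (hδ : GoodMember D g δ) : GoodMember D g (ε * δ * ε) := by
  have hB := S.cov.sp
  have C := S.cov
  obtain ⟨v, hv⟩ := C.exists_point hε.1
  have hh := rot_conj S hg hv
  have hε2 := C.sq hε.1
  have hεi := C.inv hε.1
  have hgood : GoodMember D (ε * g * ε) δ := by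
    by_cases hqv : B q v.1 = 0
    · rwa [H.eq_of_comm hqq hg hε.2 (Commute.refl g) (by
        rw [map_mul, map_mul, hv, ← (rot_commute_tr hB hg hqv).eq, mul_assoc, tr_sq, mul_one])]
    · exact H.good_switch hqq (moved_unit hB hqq v) (moved_orth hB hqq v hqv) hg hh hε.2.symm hδ
  refine ⟨?_, ?_⟩
  · have := C.conj ε hδ.1
    rwa [hεi] at this
  · have e := (commute_conj_iff' ε _ _).2 hgood.2
    rw [hεi, show ε * (ε * g * ε) * ε = (ε * ε) * g * (ε * ε) by group, hε2, one_mul, mul_one] at e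
    rwa [show ε * δ * ε * g * (ε * δ * ε) = ε * (δ * (ε * g * ε) * δ) * ε by group]

/-- The good members generate a complement of the kernel. -/
theorem Five.exists_complement {q : V} (hqq : B q q = 1) :
    ∃ K : Subgroup G, Subgroup.IsComplement' π.ker K := by
  have hB := S.cov.sp
  have C := S.cov
  obtain ⟨g, hg⟩ := S.exists_lift_rot H.dim hqq
  set T : Set G := {δ | GoodMember D g δ} with hT
  refine ⟨Subgroup.closure T, Subgroup.isComplement'_of_disjoint_and_mul_eq_univ ?_ ?_⟩
  · rw [Subgroup.disjoint_def]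
    intro a ha haK
    have hnorm : ∀ δ ∈ T, a * δ * a⁻¹ ∈ T := by
      rw [← Subgroup.mem_toSubmonoid, Subgroup.closure_toSubmonoid_of_finite] at haK
      clear ha
      induction haK using Submonoid.closure_induction with
      | one => intro δ hδ; simpa using hδ
      | mem ε hε =>
        intro δ hδ
        have := H.good_conj hqq hg hε hδ
        rwa [C.inv hε.1]
      | mul x y _ _ hx hy =>
        intro δ hδ
        rw [show x * y * δ * (x * y)⁻¹ = x * (y * δ * y⁻¹) * x⁻¹ by group]
        exact hx _ (hy δ hδ)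
    have hak : π a = 1 := MonoidHom.mem_ker.1 ha
    have hall : ∀ d ∈ D, Commute d a := by
      intro d hd
      obtain ⟨v, hv⟩ := C.exists_point hd
      obtain ⟨δ, hδ, hδv⟩ := H.exists_good hqq hg v
      have e : a * δ * a⁻¹ = δ := H.good_unique hqq hg (hnorm δ hδ) hδ
        (by rw [map_mul, map_mul, map_inv, hak]; group)
      obtain ⟨y, hy, rfl⟩ := C.mate S.core hδ.1 hd hδv hv
      have hay := H.comm y a hy hak
      have hδa : Commute δ a := (mul_inv_eq_iff_eq_mul.1 e).symm
      exact (hay.mul_left hδa).mul_left hay.inv_left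
    have hc : a ∈ Subgroup.center G := Subgroup.mem_center_iff.2 fun z =>
      (ThreeTrans.commute_all C.cls.2.2 (fun d hd => (hall d hd).symm) z).eq.symm
    rwa [H.center, Subgroup.mem_bot] at hc
  · rw [← Subgroup.normal_mul]
    refine Set.eq_univ_of_forall fun z => ?_
    have hle : Subgroup.closure D ≤ π.ker ⊔ Subgroup.closure T := (Subgroup.closure_le _).2 fun d hd => by
      obtain ⟨v, hv⟩ := C.exists_point hd
      obtain ⟨δ, hδ, hδv⟩ := H.exists_good hqq hg v
      obtain ⟨y, hy, rfl⟩ := C.mate S.core hδ.1 hd hδv hv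
      have hy' : y ∈ π.ker ⊔ Subgroup.closure T := Subgroup.mem_sup_left hy
      exact Subgroup.mul_mem _ (Subgroup.mul_mem _ hy'
        (Subgroup.mem_sup_right (Subgroup.subset_closure hδ))) (Subgroup.inv_mem _ hy')
    rw [C.cls.2.2] at hle
    exact hle (Subgroup.mem_top z)

end Cfsg.Agent.TransUnique.UG
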