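import Cfsg.Agent.TransUnique.U.Setup
import Cfsg.Agent.TransUnique.U.Complement

/-!
# The complement of the 2-core over SU(5, 2)
-/

set_option autoImplicit false

open Cfsg Cfsg.Agent.Classical Cfsg.Agent.Classical.Herm Module

namespace Cfsg.Agent.TransUnique.UG

theorem core_complement {G : Type*} [Group G] [Finite G] {D : Set G}
    (hD : IsThreeTranspositionClass D) (hZ : Subgroup.center G = ⊥) {F : Type} [Field F] [Fintype F]
    (hF : Fintype.card F = 4) (e : G ⧸ pCore 2 G ≃* Cfsg.SU 5 F 2) :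
    ∃ K : Subgroup G, (pCore 2 G).IsComplement' K := by
  obtain ⟨θ, π, C, hker⟩ := exists_cover hD hF le_rfl e
  obtain ⟨hsq, hcomm⟩ := C.ker_elementary hZ hker.ge
  have := C.mateGroup_normal
  have := C.mateGroup_comm hZ
  have S : Sect D π (mateGroup D π) := ⟨C, C.mateGroup_le, C.mateGroup_exp hZ, rfl, hker.ge⟩
  have H : Five S := ⟨Module.finrank_fin_fun F, hcomm, hsq, hZ⟩
  have hq : hermB 5 θ (Pi.single 0 1) (Pi.single 0 1) = 1 := by
    rw [isON_single (σ := θ) 5 (F := F) 0 0, if_pos rfl]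
  obtain ⟨K, hK⟩ := H.exists_complement hq
  exact ⟨K, hker ▸ hK⟩

end Cfsg.Agent.TransUnique.UG
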