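import Cfsg.Agent.TransUnique.U.Abelian
import Cfsg.Agent.Classical.UnitaryGroup

/-!
# Groups with quotient SU(n, 2) over the 2-core
-/

set_option autoImplicit false

open Cfsg Cfsg.Agent.Classical Cfsg.Agent.Classical.Herm Module

namespace Cfsg.Agent.TransUnique.UG

theorem exists_cover {G : Type*} [Group G] [Finite G] {D : Set G}
    (hD : IsThreeTranspositionClass D) {F : Type} [Field F] [Fintype F]
    (hF : Fintype.card F = 4) {n : ℕ} (hn : 5 ≤ n)
    (e : G ⧸ pCore 2 G ≃* Cfsg.SU n F 2) :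
    ∃ (θ : F →+* F) (π : G →* suG (hermB n θ)), Cover D π ∧ π.ker = pCore 2 G := by
  obtain ⟨θ, hθq, hθ, -, -⟩ := exists_powHom (F := F) (q := 2) (by rw [hF]; norm_num)
  have hB : USp (hermB n θ) := by
    refine ⟨hermB_isHerm hθ n, inferInstance, inferInstance,
      by rw [Module.finrank_fin_fun]; exact hn, ?_⟩
    intro a ha
    rw [hθq] at ha
    have : a * (a - 1) = 0 := by linear_combination ha
    rcases mul_eq_zero.1 this with h | h
    · exact Or.inl h
    · exact Or.inr (sub_eq_zero.1 h)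
  haveI : (pCore 2 G).Normal := Core.pCore_normal
  set E := e.trans (suEquiv n hθq)
  set π : G →* suG (hermB n θ) := E.toMonoidHom.comp (QuotientGroup.mk' (pCore 2 G)) with hπ
  have hsurj : Function.Surjective π := E.surjective.comp (QuotientGroup.mk'_surjective _)
  have hker : π.ker = pCore 2 G := by
    ext x
    rw [MonoidHom.mem_ker, hπ, MonoidHom.comp_apply, MulEquiv.coe_toMonoidHom,
      MulEquiv.map_eq_one_iff, QuotientGroup.mk'_apply, QuotientGroup.eq_one_iff]
  refine ⟨θ, π, ⟨hB, hD, hsurj, ?_, fun d hd h1 => ?_⟩, hker⟩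
  · haveI : Fact (Nat.Prime 2) := ⟨Nat.prime_two⟩
    rw [hker]; exact Core.pCore_isPGroup
  -- the members generate, so none lies in the kernel
  have hle : Subgroup.closure D ≤ π.ker := (Subgroup.closure_le _).2 fun x hx => by
    obtain ⟨g, rfl⟩ := ThreeTrans.class_isConj hD hd hx
    simp [MonoidHom.mem_ker, map_mul, map_inv, h1]
  rw [hD.2.2] at hle
  set v : Fin n → F := Pi.single ⟨0, by omega⟩ 1 + Pi.single ⟨1, by omega⟩ 1 with hv
  have hON := isON_single (σ := θ) n (F := F)
  have hv0 : hermB n θ (Pi.single ⟨0, by omega⟩ 1) v = 1 := by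
    rw [hv, map_add, hON, hON]; simp [Fin.ext_iff]
  have hvv : hermB n θ v v = 0 := by
    rw [hv]
    simp only [map_add, LinearMap.add_apply, hON _ _]
    simp [Fin.ext_iff, UG.two hB]
  have hvne : v ≠ 0 := fun h => by rw [h, map_zero] at hv0; exact zero_ne_one hv0
  obtain ⟨g, hg⟩ := hsurj (tr hB ⟨v, hvne, hvv⟩)
  rw [MonoidHom.mem_ker.1 (hle (Subgroup.mem_top g))] at hg
  have h2 := congrArg (fun s : suG (hermB n θ) => s.1 (Pi.single ⟨0, by omega⟩ 1)) hg
  simp only [tr_apply] at h2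
  rw [symm_one hB hv0, one_smul] at h2
  exact hvne (add_eq_left.1 (Eq.symm h2))

theorem core_elementary {G : Type*} [Group G] [Finite G] {D : Set G}
    (hD : IsThreeTranspositionClass D) (hZ : Subgroup.center G = ⊥) {F : Type} [Field F] [Fintype F]
    (hF : Fintype.card F = 4) {n : ℕ} (hn : 5 ≤ n)
    (e : G ⧸ pCore 2 G ≃* Cfsg.SU n F 2) : IsElementaryAbelian 2 (pCore 2 G) := by
  obtain ⟨θ, π, C, hker⟩ := exists_cover hD hF hn e
  obtain ⟨hsq, hcomm⟩ := C.ker_elementary hZ hker.ge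
  refine ⟨IsMulCommutative.of_comm fun a b => Subtype.ext ?_, fun a ha => ?_⟩
  · exact hcomm a b (MonoidHom.mem_ker.1 (hker.ge a.2)) (MonoidHom.mem_ker.1 (hker.ge b.2))
  · rw [pow_two]
    exact hsq a (MonoidHom.mem_ker.1 (hker.ge ha))

end Cfsg.Agent.TransUnique.UG
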