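import Cfsg.Agent.TransUnique.U.Scalar

/-!
# The kernel is elementary abelian
-/

set_option autoImplicit false
set_option linter.unusedSectionVars false

open Cfsg Cfsg.Agent.Classical Cfsg.Agent.Classical.Herm Module
open scoped IsMulCommutative

namespace Cfsg.Agent.TransUnique.UG

variable {F V : Type*} [Field F] [AddCommGroup V] [Module F V] {θ : F →+* F}
  {B : V →ₛₗ[θ] V →ₗ[F] F} {G : Type*} [Group G] [Finite G] {D : Set G} {π : G →* suG B}
  {W : Subgroup G} [W.Normal] [IsMulCommutative W] (S : Sect D π W)

include S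

theorem Sect.A_ker {a : G} (ha : π a = 1) (x : V) (m : Additive W) :
    A S x (rep W a m) = rep W a (A S x m) := by
  have h := S.A_conj a x m
  rwa [ha, show ((1 : suG B).1 : V ≃ₗ[F] V) x = x from rfl] at h

theorem Sect.smul_mod (a : ℕ) (u : Additive W) : a • u = (a % 2) • u := by
  conv_lhs => rw [← Nat.div_add_mod a 2, add_nsmul, mul_nsmul, two_nsmul, S.two, nsmul_zero, zero_add]

theorem Sect.ker_fix_in {p f m r : V} (hF : Frm B p f m r) {a : G} (ha : π a = 1) {u : Additive W}
    (hu : InA S p u) : rep W a u = u := by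
  have hP := hF.pair
  have hpf : B p f ≠ 0 := by rw [hP.pf]; exact one_ne_zero
  -- the restriction lies in the algebra
  have halg : InAlg S p f m r fun v => rep W a v := by
    refine S.alg_congr (S.span_close hF (S.span_rep hF
      (Span.gen hP.ff hpf S.alg_id fun v hv => hv) a)) fun v hv => ?_
    show rep W a v = A S p (rep W a (A S f v))
    rw [S.A_ker ha, S.in_fix hP.pp hP.ff hpf hv]
  obtain ⟨i, j, k, l, h⟩ := halg
  have hcom : ∀ v, rep W a (kap S p f m v) = kap S p f m (rep W a v) := fun v => by
    simp only [kap, nuA, S.A_ker ha]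
  have hfix : ∀ v, InA S p v → rep W a v = i • v + j • kap S p f m v := by
    intro v hv
    have e1 := h _ (S.in_kap (p := p) (f := f) (m := m) (u := v))
    simp only [(S.relations hF hv).2.2.1, S.J_sq hF hv, S.kap_add] at e1
    have e2 := congrArg (kap S p f m) (h v hv)
    rw [← hcom, e1] at e2
    simp only [S.kap_add, S.kap_nsmul, S.J_sq hF hv, nsmul_add] at e2
    have e3 : k • nil S p f m r v + l • kap S p f m (nil S p f m r v) = 0 := by
      have := sub_eq_zero.2 e2
      rw [← this]
      abel
    show rep W a v = _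
    rw [show rep W a v = _ from h v hv, add_assoc, e3, add_zero]
  obtain ⟨-, n, hn⟩ : a ∈ π.ker ∧ ∃ n : ℕ, a ^ 2 ^ n = 1 := by
    obtain ⟨n, hn⟩ := S.cov.ker2 ⟨a, ha⟩
    exact ⟨ha, n, by simpa using congrArg Subtype.val hn⟩
  have pow : ∀ (c : Additive W → Additive W),
      (∀ v, InA S p v → rep W a v = c v) →
      ((∀ v, InA S p v → c v = kap S p f m v) ∨ ∀ v, InA S p v → c v = kap S p f m v + v) →
      ∀ v, InA S p v → v = 0 := by
    intro c hc hcase v hv
    have hit : ∀ t : ℕ, (∀ v, InA S p v → rep W (a ^ 2 ^ t) v = kap S p f m v) ∨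
        ∀ v, InA S p v → rep W (a ^ 2 ^ t) v = kap S p f m v + v := by
      intro t
      induction t with
      | zero =>
        rw [pow_zero, pow_one]
        exact hcase.imp (fun hh v hv => (hc v hv).trans (hh v hv))
          (fun hh v hv => (hc v hv).trans (hh v hv))
      | succ t ih =>
        rw [pow_succ, pow_mul, pow_two]
        rcases ih with ih | ih
        · refine Or.inr fun v hv => ?_
          rw [rho_mul_apply, ih v hv, ih _ S.in_kap, S.J_sq hF hv]
        · refine Or.inl fun v hv => ?_
          rw [rho_mul_apply, ih v hv, ih _ (S.in_add S.in_kap hv), S.kap_add, S.J_sq hF hv,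
            show kap S p f m v + v + kap S p f m v + (kap S p f m v + v) =
              kap S p f m v + ((kap S p f m v + kap S p f m v) + (v + v)) by abel,
            S.two, S.two, add_zero, add_zero]
    have hq := S.J_sq hF hv
    rcases hit n with e | e
    · have e' := e v hv
      rw [hn, rho_one_apply] at e'
      rw [← e', ← e', S.two] at hq
      exact hq
    · have e' := e v hv
      rw [hn, rho_one_apply] at e'
      have e'' : kap S p f m v = 0 := by
        rw [← sub_eq_zero.2 e'.symm]
        abel
      rw [e'', S.kap_zero, zero_add] at hq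
      exact hq.symm
  have red : ∀ v, InA S p v → rep W a v = (i % 2) • v + (j % 2) • kap S p f m v := fun v hv => by
    rw [hfix v hv, ← S.smul_mod, ← S.smul_mod]
  rcases Nat.mod_two_eq_zero_or_one i with hi | hi <;>
    rcases Nat.mod_two_eq_zero_or_one j with hj | hj <;>
    simp only [hi, hj, zero_nsmul, one_nsmul, add_zero, zero_add] at red
  · have h0 := red u hu
    have : u = 0 := by rw [← rho_inv_apply (rep W) a⁻¹ u, inv_inv, h0, map_zero]
    rw [this, map_zero]
  · rw [pow _ red (Or.inl fun v _ => rfl) u hu, map_zero]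
  · exact red u hu
  · rw [pow _ red (Or.inr fun v _ => add_comm _ _) u hu, map_zero]

/-- An element of the kernel acts trivially. -/
theorem Sect.ker_fix {a : G} (ha : π a = 1) (n : Additive W) : rep W a n = n := by
  have hB := S.cov.sp
  refine S.rel.eq_of_add (S.ext_zero (op (rep W) a) (fun x u => ?_) n)
  by_cases hx : x ≠ 0 ∧ B x x = 0
  · obtain ⟨f, hP⟩ := exists_partner_pair hB hx.1 hx.2
    obtain ⟨m, r, hF⟩ := exists_frm hB hP
    rw [op_apply, S.ker_fix_in hF ha ⟨u, rfl⟩, S.two]
  · rw [S.A_bad hx, map_zero]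

omit S

variable (C : Cover D π)
include C

/-- The kernel is elementary abelian. -/
theorem Cover.ker_elementary (hZ : Subgroup.center G = ⊥) (hcore : pCore 2 G ≤ π.ker) :
    (∀ a, π a = 1 → a * a = 1) ∧ ∀ a b, π a = 1 → π b = 1 → Commute a b := by
  have := C.mateGroup_normal
  have := C.mateGroup_comm hZ
  have S' : Sect D π (mateGroup D π) := ⟨C, C.mateGroup_le, C.mateGroup_exp hZ, rfl, hcore⟩
  have hsq : ∀ a, π a = 1 → a * a = 1 := by
    intro a ha
    have hc : ∀ x ∈ mateGroup D π, Commute a x := by
      intro x hx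
      have h1 := S'.ker_fix ha (Additive.ofMul ⟨x, hx⟩)
      have h2 : a * x * a⁻¹ = x := congrArg (fun w => ((Additive.toMul w : mateGroup D π) : G)) h1
      exact mul_inv_eq_iff_eq_mul.1 h2
    have hmem : a * a ∈ Subgroup.center G := by
      refine Subgroup.mem_center_iff.2 fun g =>
        (ThreeTrans.commute_all C.cls.2.2 (fun d hd => ?_) g).eq.symm
      set α := d * (a * d * a⁻¹) with hα
      have hα1 : α ∈ mateGroup D π := Subgroup.subset_closure ⟨d, hd, a, ha, rfl⟩
      have hα2 : α * α = 1 := C.mateGroup_exp hZ α hα1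
      have h1 : a * d * a⁻¹ = d * α := by rw [hα, ← mul_assoc, C.sq hd, one_mul]
      show a * a * d = d * (a * a)
      calc a * a * d = a * (a * d * a⁻¹) * a := by group
        _ = a * d * α * a := by rw [h1]; group
        _ = (a * d * a⁻¹) * (a * α) * a := by group
        _ = d * α * (α * a) * a := by rw [h1, (hc α hα1).eq]
        _ = d * (α * α) * (a * a) := by group
        _ = d * (a * a) := by rw [hα2, mul_one]
    rwa [hZ, Subgroup.mem_bot] at hmem
  refine ⟨hsq, fun a b ha hb => ?_⟩
  have h := hsq (a * b) (by rw [map_mul, ha, hb, one_mul])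
  show a * b = b * a
  calc a * b = (a * a) * (a * b) * (b * b) := by rw [hsq a ha, hsq b hb, one_mul, mul_one]
    _ = a * (a * a * (b * b)) * b := by group
    _ = a * (a * b * (a * b)) * b := by rw [h, hsq a ha, hsq b hb, one_mul]
    _ = (a * a) * (b * a) * (b * b) := by group
    _ = b * a := by rw [hsq a ha, hsq b hb, one_mul, mul_one]

end Cfsg.Agent.TransUnique.UG
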