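import Cfsg.Agent.TransUnique.U.Space
import Cfsg.Agent.TransUnique.Lift
import Cfsg.Agent.Core.Solvable

/-!
# Groups with a class of 3-transpositions over a unitary group, modulo a 2-group

An element of the kernel commuting with the members over a hyperbolic pair and over its
perpendicular is central.
-/

set_option autoImplicit false
set_option linter.unusedSectionVars false

open Cfsg Cfsg.Agent.Classical Cfsg.Agent.Classical.Herm Module
open scoped IsMulCommutative

namespace Cfsg.Agent.TransUnique.UG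

universe u

variable {F V : Type*} [Field F] [AddCommGroup V] [Module F V] {θ : F →+* F}
  {B : V →ₛₗ[θ] V →ₗ[F] F}

/-- A class of 3-transpositions of `G` lying over a unitary group modulo a 2-group. -/
structure Cover {G : Type*} [Group G] (D : Set G) (π : G →* suG B) : Prop where
  sp : USp B
  cls : IsThreeTranspositionClass D
  surj : Function.Surjective π
  ker2 : IsPGroup 2 π.ker
  nt : ∀ d ∈ D, π d ≠ 1

variable {G : Type*} [Group G] {D : Set G} {π : G →* suG B} (C : Cover D π)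

include C

theorem Cover.sq {d : G} (hd : d ∈ D) : d * d = 1 := ThreeTrans.mul_self C.cls.1 hd

theorem Cover.inv {d : G} (hd : d ∈ D) : d⁻¹ = d := ThreeTrans.inv_eq C.cls.1 hd

theorem Cover.conj (g : G) {d : G} (hd : d ∈ D) : g * d * g⁻¹ ∈ D :=
  ThreeTrans.class_conj C.cls g d hd

theorem Cover.exists_point {d : G} (hd : d ∈ D) : ∃ v, π d = tr C.sp v := by
  rcases transvection_or_order_four C.sp (g := π d) (by rw [← map_mul, C.sq hd, map_one])
    (C.nt d hd) with h | ⟨h, h4, h2, h3⟩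
  · exact h
  exfalso
  obtain ⟨k, rfl⟩ := C.surj h
  rw [← map_inv, ← map_mul, ← map_mul, ← map_mul, ← map_pow] at h2 h3
  rcases C.cls.1.2 d hd _ (C.conj k hd) with e | e
  · exact h2 (by rw [e, map_one])
  · exact h3 (by rw [e, map_one])

theorem Cover.exists_member (v : Pt B) : ∃ d ∈ D, π d = tr C.sp v := by
  have := C.sp.fin; have := C.sp.finF
  have hB := C.sp
  have step : ∀ v w : Pt B, B v.1 w.1 ≠ 0 →
      (∃ d ∈ D, π d = tr hB v) → ∃ d ∈ D, π d = tr hB w := by
    intro v w h hv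
    obtain ⟨d, hd, hdv⟩ := hv
    obtain ⟨u, -, hu⟩ := exists_tmove hB v w
    obtain ⟨k, hk⟩ := C.surj (tr hB u)
    refine ⟨_, C.conj k hd, ?_⟩
    rw [map_mul, map_mul, map_inv, hk, hdv, inv_eq_of_mul_eq_one_left (tr_sq hB u), ← hu]
    calc tr hB v * tr hB w * tr hB v * tr hB v * (tr hB v * tr hB w * tr hB v)
        = tr hB v * (tr hB w * tr hB v * tr hB w) * tr hB v := by
          rw [mul_assoc (tr hB v * tr hB w) (tr hB v) (tr hB v), tr_sq, mul_one]
          simp only [mul_assoc]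
      _ = tr hB w := by
          rw [← tr_braid hB h]
          simp only [mul_assoc, tr_sq, mul_one]
          rw [← mul_assoc, tr_sq, one_mul]
  obtain ⟨d₀, hd₀, -⟩ := C.cls.2.1
  obtain ⟨v₀, hv₀⟩ := C.exists_point hd₀
  obtain ⟨z, hzz, hzv, hzw⟩ := Classical.Herm.exists_common hB.herm v₀.2.1 v₀.2.2 v.2.1 v.2.2
  set tz : Pt B := ⟨z, fun h => hzv (by rw [h]; simp), hzz⟩
  exact step tz v hzw (step v₀ tz (fun h => hzv ((symm_zero hB).1 h)) ⟨d₀, hd₀, hv₀⟩)

theorem Cover.eq_one_of_mem {x : G} (hx : π x = 1) (h3 : x ^ 3 = 1) : x = 1 :=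
  ThreeTrans.eq_one_of_mem_pGroup C.ker2 hx h3 (by norm_num)

theorem Cover.commute {d e : G} (hd : d ∈ D) (he : e ∈ D) {v w : Pt B} (hv : π d = tr C.sp v)
    (hw : π e = tr C.sp w) (h : B v.1 w.1 = 0) : Commute d e := by
  by_contra hne
  have h3 := ThreeTrans.cube_of_not_commute C.cls.1 hd he hne
  have h2 : (d * e) ^ 2 = 1 := by
    refine C.eq_one_of_mem ?_ (by rw [← pow_mul, mul_comm, pow_mul, h3, one_pow])
    rw [map_pow, map_mul, hv, hw, ((tr_commute_iff C.sp v w).2 h).mul_pow, pow_two, pow_two, tr_sq,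
      tr_sq, one_mul]
  exact hne ((ThreeTrans.sq_eq_one_iff C.cls.1 hd he).1 h2)

theorem Cover.not_commute {d e : G} {v w : Pt B} (hv : π d = tr C.sp v)
    (hw : π e = tr C.sp w) (h : B v.1 w.1 ≠ 0) : ¬ Commute d e := fun hc =>
  h ((tr_commute_iff C.sp v w).1 (hv ▸ hw ▸ hc.map π))

theorem Cover.conj_point (g : G) {d : G} {v u : Pt B} (hv : π d = tr C.sp v)
    (hu : u.1 = (π g).1 v.1) : π (g * d * g⁻¹) = tr C.sp u := by
  rw [map_mul, map_mul, map_inv, hv, tr_conj C.sp (π g) hu]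

omit C in
/-- The product of the transvections of the five points of a totally isotropic line. -/
theorem five_product (hB : USp B) (v w : Pt B) (hvw : B v.1 w.1 = 0) (u : F → Pt B)
    (hu : ∀ k, (u k).1 = v.1 + k • w.1) :
    tr hB v * tr hB w * tr hB (u 1) * tr hB (u (om hB)) * tr hB (u (om hB + 1)) = 1 := by
  have hwv := (symm_zero hB).1 hvw
  refine ext_suG hB fun x => ?_
  show (tr hB v).1 ((tr hB w).1 ((tr hB (u 1)).1 ((tr hB (u (om hB))).1
    ((tr hB (u (om hB + 1))).1 x)))) = x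
  simp only [tr_apply, hu, map_add, map_smul, map_smulₛₗ, LinearMap.add_apply, LinearMap.smul_apply,
    smul_eq_mul, v.2.2, w.2.2, hvw, hwv, mul_zero, add_zero, om_conj hB, map_one,
    one_smul]
  have := charTwo hB
  match_scalars
  all_goals grind [om_sq hB]

variable [Finite G]

omit C in
theorem commute_conj_iff' {H : Type*} [Group H] (g a b : H) :
    Commute (g * a * g⁻¹) (g * b * g⁻¹) ↔ Commute a b := Commute.conj_iff g

omit C in
/-- A normal subgroup of a `2`-subgroup meets its centre. -/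
theorem exists_fixed_of_pGroup {H : Type*} [Group H] [Finite H] {K N : Subgroup H} [N.Normal]
    (hK : IsPGroup 2 K) (hN0 : N ≠ ⊥) (hNK : N ≤ K) :
    ∃ x ∈ N, x ∈ Subgroup.centralizer (K : Set H) ∧ x ≠ 1 := by
  have : Fact (Nat.Prime 2) := ⟨Nat.prime_two⟩
  have hne : Nontrivial (N.subgroupOf K) := by
    obtain ⟨x, hx, hx1⟩ := N.bot_or_exists_ne_one.resolve_left hN0
    exact ⟨⟨⟨x, hNK hx⟩, hx⟩, 1, fun h => hx1 (congrArg (fun y : N.subgroupOf K => ((y : K) : H)) h)⟩
  have : Group.IsNilpotent K := IsPGroup.isNilpotent hK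
  have hz : (N.subgroupOf K) ⊓ Subgroup.center K ≠ ⊥ := Core.inf_center_ne_bot
    ((Subgroup.nontrivial_iff_ne_bot _).1 hne)
  obtain ⟨x, hx, hx1⟩ := (Subgroup.bot_or_exists_ne_one _).resolve_left hz
  exact ⟨x, hx.1, fun k hk => congrArg Subtype.val (Subgroup.mem_center_iff.1 hx.2 ⟨k, hk⟩),
    fun h => hx1 (Subtype.ext h)⟩

/-- The generators used to test centrality. -/
def Base (C : Cover D π) (p f : V) (d : G) : Prop :=
  d ∈ D ∧ ∃ v : Pt B, π d = tr C.sp v ∧ (v.1 = p ∨ v.1 = f ∨ Perp B p f v.1)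

/-- Commutes with all members over the point. -/
def Good (C : Cover D π) (c : G) (v : Pt B) : Prop :=
  ∀ d ∈ D, π d = tr C.sp v → Commute c d

theorem Cover.good_move {c : G} {v w u : Pt B} (hv : Good C c v) (hw : Good C c w)
    (hu : u.1 = w.1 + B v.1 w.1 • v.1) : Good C c u := by
  intro d hd hdu
  obtain ⟨e, he, hev⟩ := C.exists_member v
  obtain ⟨u', hu', hu''⟩ := exists_tmove C.sp v w
  have : u' = u := Subtype.ext (hu'.trans hu.symm)
  subst this
  have h1 : π (e * d * e) = tr C.sp w := by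
    rw [map_mul, map_mul, hev, hdu, ← hu'']
    simp only [mul_assoc, tr_sq, mul_one]
    rw [← mul_assoc, tr_sq, one_mul]
  have hce := hv e he hev
  have hmem : e * d * e ∈ D := by have := C.conj e hd; rwa [C.inv he] at this
  have h2 := (hce.mul_right (hw _ hmem h1)).mul_right hce
  rwa [show e * (e * d * e) * e = (e * e) * d * (e * e) by simp only [mul_assoc], C.sq he, one_mul,
    mul_one] at h2

theorem Cover.good_smul {c : G} {v u : Pt B} (hv : Good C c v) {k : F} (hk : u.1 = k • v.1) :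
    Good C c u := fun d hd h => hv d hd (h.trans ((tr_eq_iff C.sp v u).2 ⟨k, hk⟩).symm)

section Step

variable {N : Subgroup G} [N.Normal] [IsMulCommutative N]

theorem Cover.lift_star (hexp : ∀ x ∈ N, x * x = 1) {y z : G} (hy : y ∈ D)
    (hz : z ∈ D) (hyz : ¬ Commute y z) {w : Additive N} (hw : IsLift N D y w) :
    w = op (rep N) y (op (rep N) z w) := by
  have rD := rel_of_class (V := N) hexp C.cls
  have ha : op (rep N) y w = 0 := op_lift_self C.cls.1 (C.sq hy) hw
  have h := lift_pair hexp C.cls.1 (C.sq hy) (C.sq hz)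
    (ThreeTrans.cube_of_not_commute C.cls.1 hy hz hyz) (fun h => hyz (by
      rw [mul_eq_one_iff_eq_inv.1 h, C.inv hz])) hw
    (show IsLift N D z (0 : Additive N) by rw [IsLift, incl_zero, mul_one]; exact hz)
  simp only [rho_mul_apply, rD.rho_eq z, rD.rho_eq y, map_add, ha, rD.sq hz, zero_add,
    add_zero] at h
  set a := op (rep N) y
  set b := op (rep N) z
  have hbab : b (a (b w)) = b w := rD.ncomm z hz y hy (fun h => hyz h.symm) w
  refine rD.eq_of_add ?_
  rw [← h, hbab]
  trans w + a (b w) + (((w + w) + (a (b w) + a (b w))) + ((b w + b w) + (b w + b w) + (b w + b w)))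
  · simp only [rD.two, add_zero]
  · abel

variable {c : G}

/-- The step across a totally isotropic line through `p`. -/
theorem Cover.good_line (hN : N ≤ π.ker) (hexp : ∀ x ∈ N, x * x = 1) {p f : V}
    (hP : Pair B p f) (hbase : ∀ d, Base C p f d → Commute c d)
    (hker : ∀ a : G, π a = 1 → Commute c a)
    (hcD : ∀ d ∈ D, d * (c * d * c⁻¹) ∈ N)
    {m : V} (hm : Perp B p f m) (hm0 : m ≠ 0) (hmm : B m m = 0) {v : Pt B} (hv : v.1 = p + m) :
    Good C c v := by
  have hB := C.sp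
  have rD := rel_of_class (V := N) hexp C.cls
  obtain ⟨m', q, hm', hpair, hq, hqperp, hqq⟩ := hP.exists_frame hB hm hm0 hmm
  have h2 := add_self' hB
  have hθ := om_conj hB
  have hω := om_sq hB
  -- the cycle on the line
  set ω := om hB
  set r := (ω + 1) • m + m' + q with hr
  have hrr : B r r = 0 := by
    simp [hr, hpair.pp, hpair.ff, hpair.pf, hpair.fp hB, hqq, hqperp.1, hqperp.2,
      (hqperp.left hB).1, (hqperp.left hB).2, hθ]
    have := charTwo hB
    grind
  have hr0 : r ≠ 0 := fun h => by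
    have := congrArg (B m) h
    simp [hr, hpair.pp, hpair.pf, hqperp.1] at this
  have hs0 : m + m' + ω • m + ω • r ≠ 0 := fun h => by
    have := congrArg (B q) h
    simp [hr, (hqperp.left hB).1, (hqperp.left hB).2, hqq] at this
    exact om_ne hB this
  have hss : B (m + m' + ω • m + ω • r) (m + m' + ω • m + ω • r) = 0 := by
    simp [hr, hpair.pp, hpair.ff, hpair.pf, hpair.fp hB, hqq, hqperp.1, hqperp.2,
      (hqperp.left hB).1, (hqperp.left hB).2, hθ]
    have := charTwo hB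
    grind
  set P₁ : Pt B := ⟨m', hpair.right_ne hB, hpair.ff⟩
  set P₂ : Pt B := ⟨m + m' + ω • m + ω • r, hs0, hss⟩
  set P₃ : Pt B := ⟨r, hr0, hrr⟩
  obtain ⟨e₁, he₁, hv₁⟩ := C.exists_member P₁
  obtain ⟨e₂, he₂, hv₂⟩ := C.exists_member P₂
  obtain ⟨e₃, he₃, hv₃⟩ := C.exists_member P₃
  have pm : Perp B p f (m + m' + ω • m + ω • r) := by
    constructor <;> simp [hr, hm.1, hm.2, hm'.1, hm'.2, hq.1, hq.2]
  have pr : Perp B p f r := by
    constructor <;> simp [hr, hm.1, hm.2, hm'.1, hm'.2, hq.1, hq.2]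
  have c₁ : Commute c e₁ := hbase _ ⟨he₁, P₁, hv₁, Or.inr (Or.inr hm')⟩
  have c₂ : Commute c e₂ := hbase _ ⟨he₂, P₂, hv₂, Or.inr (Or.inr pm)⟩
  have c₃ : Commute c e₃ := hbase _ ⟨he₃, P₃, hv₃, Or.inr (Or.inr pr)⟩
  set h := e₃ * e₂ * e₁ with hh
  have hch : Commute c h := (c₃.mul_right c₂).mul_right c₁
  have hact : ∀ x, (π h).1 x = (tr hB P₃).1 ((tr hB P₂).1 ((tr hB P₁).1 x)) := fun x => by
    rw [hh, map_mul, map_mul, hv₁, hv₂, hv₃]; rfl
  have hfixp : (π h).1 p = p := by
    rw [hact]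
    have a1 := (hm'.left hB).1
    have a2 := (pm.left hB).1
    have a3 := (pr.left hB).1
    simp only [tr_apply, P₁, P₂, P₃]
    rw [a1]
    simp only [zero_smul, add_zero]
    rw [a2]
    simp only [zero_smul, add_zero]
    rw [a3]
    simp only [zero_smul, add_zero]
  have hmove : (π h).1 m = ω • m := by
    rw [hact]
    simp [tr_apply, P₁, P₂, P₃, hr, hpair.pp, hpair.ff, hpair.pf, hpair.fp hB, hqq, hqperp.1,
      hqperp.2, (hqperp.left hB).1, (hqperp.left hB).2, hθ]
    have := charTwo hB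
    match_scalars
    all_goals grind
  -- the five members
  obtain ⟨dp, hdp, hvp⟩ := C.exists_member ⟨p, hP.left_ne hB, hP.pp⟩
  obtain ⟨dm, hdm, hvm⟩ := C.exists_member ⟨m, hm0, hmm⟩
  obtain ⟨dz, hdz, hvz⟩ := C.exists_member ⟨f, hP.right_ne hB, hP.ff⟩
  have cp : Commute c dp := hbase _ ⟨hdp, _, hvp, Or.inl rfl⟩
  have cm : Commute c dm := hbase _ ⟨hdm, _, hvm, Or.inr (Or.inr hm)⟩
  have cz : Commute c dz := hbase _ ⟨hdz, _, hvz, Or.inr (Or.inl rfl)⟩
  have hne : ∀ k : F, p + k • m ≠ 0 := fun k hk => by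
    have := congrArg (B f) hk
    simp [hP.fp hB, hm.2] at this
  have hiso : ∀ k : F, B (p + k • m) (p + k • m) = 0 := fun k => by
    simp [hP.pp, hm.1, (hm.left hB).1, hmm]
  set L : F → Pt B := fun k => ⟨p + k • m, hne k, hiso k⟩
  intro d₁ hd₁ hv'
  have hL1 : π d₁ = tr hB (L 1) := by
    rw [hv']; congr 1; exact Subtype.ext (by simp [L, hv])
  have hstep : ∀ d k, π d = tr hB (L k) → π (h * d * h⁻¹) = tr hB (L (ω * k)) := fun d k hd =>
    C.conj_point h hd (by simp [L, hfixp, hmove, smul_smul, mul_comm])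
  set d₂ := h * d₁ * h⁻¹
  set d₃ := h * d₂ * h⁻¹
  have hL2 : π d₂ = tr hB (L ω) := by have := hstep d₁ 1 hL1; rwa [mul_one] at this
  have hL3 : π d₃ = tr hB (L (ω + 1)) := by have := hstep d₂ ω hL2; rwa [hω] at this
  have hd₂ : d₂ ∈ D := C.conj h hd₁
  have hd₃ : d₃ ∈ D := C.conj h hd₂
  have ex : ∀ d ∈ D, ∃ w : Additive N, c * d * c⁻¹ = d * incl N w := by
    intro d hd
    obtain ⟨w, hw⟩ := exists_incl (hcD d hd)
    exact ⟨w, by rw [hw, ← mul_assoc, C.sq hd, one_mul]⟩
  have lift : ∀ d ∈ D, ∀ w, c * d * c⁻¹ = d * incl N w → IsLift N D d w := fun d hd w hw => by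
    rw [IsLift, ← hw]; exact C.conj c hd
  obtain ⟨w, hw⟩ := ex d₁ hd₁
  have equi : ∀ d w, c * d * c⁻¹ = d * incl N w →
      c * (h * d * h⁻¹) * c⁻¹ = (h * d * h⁻¹) * incl N (rep N h w) := by
    intro d w hw
    rw [incl_rep, show h * d * h⁻¹ * (h * incl N w * h⁻¹) = h * (d * incl N w) * h⁻¹ by group, ← hw,
      show c * (h * d * h⁻¹) * c⁻¹ = (c * h) * d * (c * h)⁻¹ by group, hch.eq]
    group
  have hw₂ := equi d₁ w hw
  have hw₃ := equi d₂ _ hw₂
  set w₂ := rep N h w
  set w₃ := rep N h w₂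
  have hfive : π (dp * dm * d₁ * d₂ * d₃) = 1 := by
    rw [map_mul, map_mul, map_mul, map_mul, hvp, hvm, hL1, hL2, hL3]
    exact five_product hB ⟨p, hP.left_ne hB, hP.pp⟩ ⟨m, hm0, hmm⟩ hm.1 L fun k => rfl
  have comm : ∀ (d e : G) (k l : F), d ∈ D → e ∈ D → π d = tr hB (L k) → π e = tr hB (L l) →
      ∀ we, c * e * c⁻¹ = e * incl N we → Commute d (incl N we) := by
    intro d e k l hd he hdk hel we hwe
    have hl : B (L k).1 (L l).1 = 0 := by simp [L, hP.pp, hm.1, (hm.left hB).1, hmm]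
    have h1 := C.commute hd he hdk hel hl
    have h2 : Commute d (e * incl N we) := C.commute hd (lift e he we hwe) hdk (by
      rw [map_mul, MonoidHom.mem_ker.1 (hN (incl_mem we)), mul_one, hel]) hl
    have := h1.inv_right.mul_right h2
    rwa [inv_mul_cancel_left] at this
  have hsum : w + w₂ + w₃ = 0 := by
    apply incl_eq_one.1
    have key := hker _ hfive
    have e1 : c * (dp * dm * d₁ * d₂ * d₃) * c⁻¹ = (c * dp * c⁻¹) * (c * dm * c⁻¹) *
        (c * d₁ * c⁻¹) * (c * d₂ * c⁻¹) * (c * d₃ * c⁻¹) := by group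
    rw [key.eq, mul_inv_cancel_right, cp.eq, mul_inv_cancel_right, cm.eq, mul_inv_cancel_right, hw,
      hw₂, hw₃] at e1
    have a2 := comm d₂ d₁ _ _ hd₂ hd₁ hL2 hL1 w hw
    have a3 := comm d₃ d₁ _ _ hd₃ hd₁ hL3 hL1 w hw
    have a4 := comm d₃ d₂ _ _ hd₃ hd₂ hL3 hL2 w₂ hw₂
    rw [show dp * dm * (d₁ * incl N w) * (d₂ * incl N w₂) * (d₃ * incl N w₃) =
      dp * dm * d₁ * ((incl N w * d₂) * ((incl N w₂ * d₃) * incl N w₃)) by group, ← a4.eq, ← a2.eq,
      show d₂ * incl N w * (d₃ * incl N w₂ * incl N w₃) =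
        d₂ * ((incl N w * d₃) * (incl N w₂ * incl N w₃)) by group, ← a3.eq] at e1
    rw [incl_add, incl_add]
    apply mul_left_cancel (a := dp * dm * d₁ * d₂ * d₃)
    rw [mul_one]
    conv_rhs => rw [e1]
    simp only [mul_assoc]
  have hnz : ∀ d k, π d = tr hB (L k) → ¬ Commute d dz := fun d k hd => C.not_commute hd hvz (by
    simp [L, hP.pf, (hm.left hB).2])
  have hzh : Commute h dz := by
    have a1 := C.commute he₁ hdz hv₁ hvz (hm'.left hB).2
    have a2 := C.commute he₂ hdz hv₂ hvz (pm.left hB).2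
    have a3 := C.commute he₃ hdz hv₃ hvz (pr.left hB).2
    exact (a3.mul_left a2).mul_left a1
  set b := op (rep N) dz with hb
  have hbh : ∀ u, b (rep N h u) = rep N h (b u) := fun u => by
    simp only [hb, op_apply, map_add]
    rw [← rho_mul_apply, ← hzh.eq, rho_mul_apply]
  have hfixb : ∀ u, rep N h (b u) = b u := by
    have one : ∀ e ∈ D, Commute e dz → ∀ u, rep N e (b u) = b u := fun e he hec u =>
      rD.eq_of_add (rD.comm e he dz hdz hec u)
    intro u
    rw [hh, rho_mul_apply, rho_mul_apply,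
      one e₁ he₁ (C.commute he₁ hdz hv₁ hvz (hm'.left hB).2),
      one e₂ he₂ (C.commute he₂ hdz hv₂ hvz (pm.left hB).2),
      one e₃ he₃ (C.commute he₃ hdz hv₃ hvz (pr.left hB).2)]
  have hb0 : b w = 0 := by
    have := congrArg b hsum
    rw [map_add, map_add, hbh w₂, hfixb, hbh w, hfixb, map_zero, rD.two, zero_add] at this
    exact this
  have hw0 : w = 0 := by
    rw [C.lift_star hexp hd₁ hdz (hnz d₁ 1 hL1) (lift d₁ hd₁ w hw)]
    show op (rep N) d₁ (b w) = 0
    rw [hb0, map_zero]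
  rw [hw0, incl_zero, mul_one, mul_inv_eq_iff_eq_mul] at hw
  exact hw

end Step

/-- The points of the base and of the lines give every point. -/
theorem Cover.good_all {c : G} {p f : V} (hP : Pair B p f)
    (hp : ∀ v : Pt B, v.1 = p → Good C c v) (hf : ∀ v : Pt B, v.1 = f → Good C c v)
    (hperp : ∀ v : Pt B, Perp B p f v.1 → Good C c v)
    (hpm : ∀ (m : V), Perp B p f m → m ≠ 0 → B m m = 0 → ∀ v : Pt B, v.1 = p + m → Good C c v)
    (hfm : ∀ (m : V), Perp B p f m → m ≠ 0 → B m m = 0 → ∀ v : Pt B, v.1 = f + m → Good C c v)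
    (x : Pt B) : Good C c x := by
  have hB := C.sp
  set α := B f x.1 with hα
  set β := B p x.1 with hβ
  set m := x.1 + α • p + β • f with hm
  have hmp : Perp B p f m := by
    constructor <;> simp [hm, hα, hβ, hP.pp, hP.ff, hP.pf, hP.fp hB, add_self' hB]
  have hx : x.1 = α • p + β • f + m := by
    rw [hm, show α • p + β • f + (x.1 + α • p + β • f) = x.1 + ((α • p + α • p) + (β • f + β • f)) by
      abel, vadd_self hB, vadd_self hB, add_zero, add_zero]
  have hxx : θ α * β + θ β * α + B m m = 0 := by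
    have h := x.2.2
    rw [hx] at h
    simp [hP.pp, hP.ff, hP.pf, hP.fp hB, hmp.1, hmp.2, (hmp.left hB).1, (hmp.left hB).2] at h
    linear_combination h
  by_cases hb0 : β = 0
  · rw [hb0, zero_smul, add_zero] at hx
    rw [hb0, mul_zero, map_zero, zero_mul, add_zero, zero_add] at hxx
    by_cases ha0 : α = 0
    · rw [ha0, zero_smul, zero_add] at hx
      exact hperp x (hx ▸ hmp)
    · by_cases hm0 : m = 0
      · exact C.good_smul (v := ⟨p, hP.left_ne hB, hP.pp⟩) (k := α) (hp _ rfl)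
          (by rw [hx, hm0, add_zero])
      · have hmp' : Perp B p f (α⁻¹ • m) := by constructor <;> simp [hmp.1, hmp.2]
        have hm' : B (α⁻¹ • m) (α⁻¹ • m) = 0 := by simp [hxx]
        have hne : p + α⁻¹ • m ≠ 0 := fun h => by
          have := congrArg (B f) h
          simp [hP.fp hB, hmp.2] at this
        refine C.good_smul (v := ⟨p + α⁻¹ • m, hne, ?_⟩) (k := α)
          (hpm (α⁻¹ • m) hmp' (smul_ne_zero (inv_ne_zero ha0) hm0) hm' _ rfl)
          (by rw [hx, smul_add, smul_inv_smul₀ ha0])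
        simp [hP.pp, hmp.1, (hmp.left hB).1, hxx]
  by_cases ha0 : α = 0
  · rw [ha0, zero_smul, zero_add] at hx
    rw [ha0, map_zero, zero_mul, mul_zero, zero_add, zero_add] at hxx
    by_cases hm0 : m = 0
    · exact C.good_smul (v := ⟨f, hP.right_ne hB, hP.ff⟩) (k := β) (hf _ rfl)
        (by rw [hx, hm0, add_zero])
    · have hmp' : Perp B p f (β⁻¹ • m) := by constructor <;> simp [hmp.1, hmp.2]
      have hm' : B (β⁻¹ • m) (β⁻¹ • m) = 0 := by simp [hxx]
      have hne : f + β⁻¹ • m ≠ 0 := fun h => by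
        have := congrArg (B p) h
        simp [hP.pf, hmp.1] at this
      refine C.good_smul (v := ⟨f + β⁻¹ • m, hne, ?_⟩) (k := β)
        (hfm (β⁻¹ • m) hmp' (smul_ne_zero (inv_ne_zero hb0) hm0) hm' _ rfl)
        (by rw [hx, smul_add, smul_inv_smul₀ hb0])
      simp [hP.ff, hmp.2, (hmp.left hB).2, hxx]
  -- both coordinates nonzero: scale the first one to `1`
  set n := α⁻¹ • m with hn
  set γ := α⁻¹ * β with hγ
  have hnp : Perp B p f n := by constructor <;> simp [hn, hmp.1, hmp.2]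
  have hxs : x.1 = α • (p + γ • f + n) := by
    rw [hx, smul_add, smul_add, smul_smul, hγ, mul_inv_cancel_left₀ ha0, hn, smul_inv_smul₀ ha0]
  have hnn : γ + θ γ + B n n = 0 := by
    have hαi : θ α⁻¹ * α⁻¹ = 1 := by
      rw [mul_comm]; exact norm_one hB (inv_ne_zero ha0)
    simp only [hn, hγ, map_smulₛₗ, map_smul, LinearMap.smul_apply, smul_eq_mul, map_mul,
      RingHom.id_apply]
    have h1 : θ α * θ α⁻¹ = 1 := by rw [← map_mul, mul_inv_cancel₀ ha0, map_one]
    have h2 : α * α⁻¹ = 1 := mul_inv_cancel₀ ha0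
    linear_combination (θ α⁻¹ * α⁻¹) * hxx - (α⁻¹ * β) * h1 - (θ α⁻¹ * θ β) * h2
  have hne : p + γ • f + n ≠ 0 := fun h => by
    have := congrArg (B f) h
    simp [hP.fp hB, hP.ff, hnp.2] at this
  have hiso : B (p + γ • f + n) (p + γ • f + n) = 0 := by
    simp [hP.pp, hP.ff, hP.pf, hP.fp hB, hnp.1, hnp.2, (hnp.left hB).1, (hnp.left hB).2]
    linear_combination hnn
  refine C.good_smul (v := ⟨p + γ • f + n, hne, hiso⟩) (k := α) ?_ hxs
  rcases field_cases hB γ with h | h | h
  · exact absurd h (mul_ne_zero (inv_ne_zero ha0) hb0)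
  · rw [h, map_one, two hB, zero_add] at hnn
    by_cases hn0 : n = 0
    · refine C.good_move (v := ⟨f, hP.right_ne hB, hP.ff⟩) (w := ⟨p, hP.left_ne hB, hP.pp⟩)
        (hf _ rfl) (hp _ rfl) ?_
      simp [h, hn0, hP.fp hB]
    · have hne' : p + n ≠ 0 := fun e => by
        have := congrArg (B f) e
        simp [hP.fp hB, hnp.2] at this
      refine C.good_move (v := ⟨f, hP.right_ne hB, hP.ff⟩)
        (w := ⟨p + n, hne', by simp [hP.pp, hnp.1, (hnp.left hB).1, hnn]⟩)
        (hf _ rfl) (hpm n hnp hn0 hnn _ rfl) ?_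
      simp [h, hP.fp hB, hnp.2]
      abel
  · -- `γ` is a primitive cube root of unity
    have hγs : γ * γ = γ + 1 ∧ θ γ = γ + 1 := by
      rcases h with h | h <;> rw [h]
      · exact ⟨om_sq hB, om_conj hB⟩
      · have := charTwo hB
        constructor
        · grind [om_sq hB]
        · rw [map_add, map_one, om_conj hB]
    have hn1 : B n n = 1 := by
      have := charTwo hB
      grind
    obtain ⟨m₁, hm₁, hm₁0, hm₁i, hm₁n⟩ := hP.exists_iso hB hnp hn1 (c := γ + 1) (fun e => by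
      have := charTwo hB
      have := hγs.1
      grind)
    set m₂ := n + γ • m₁ with hm₂
    have hm₂p : Perp B p f m₂ := by constructor <;> simp [hm₂, hnp.1, hnp.2, hm₁.1, hm₁.2]
    have hnm : B n m₁ = γ := by
      rw [← hB.herm.symm, hm₁n, map_add, map_one, hγs.2, add_assoc, two hB, add_zero]
    have hm₂i : B m₂ m₂ = 0 := by
      simp [hm₂, hn1, hm₁i, hnm, hm₁n, hγs.2]
      have := charTwo hB
      grind
    have hm₂0 : m₂ ≠ 0 := fun e => by
      have := congrArg (B m₁) e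
      simp [hm₂, hm₁n, hm₁i] at this
      have := hγs.1
      grind
    have hne1 : f + m₁ ≠ 0 := fun e => by
      have := congrArg (B p) e
      simp [hP.pf, hm₁.1] at this
    have hne2 : p + m₂ ≠ 0 := fun e => by
      have := congrArg (B f) e
      simp [hP.fp hB, hm₂p.2] at this
    refine C.good_move (v := ⟨f + m₁, hne1, by simp [hP.ff, hm₁.2, (hm₁.left hB).2, hm₁i]⟩)
      (w := ⟨p + m₂, hne2, by simp [hP.pp, hm₂p.1, (hm₂p.left hB).1, hm₂i]⟩)
      (hfm m₁ hm₁ hm₁0 hm₁i _ rfl) (hpm m₂ hm₂p hm₂0 hm₂i _ rfl) ?_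
    simp [hP.fp hB, (hm₁.left hB).1, hm₂p.2, hm₂, hm₁n, hm₁i, hnp.2, hm₁.2]
    have := charTwo hB
    match_scalars
    all_goals grind

omit C [Finite G] in
/-- An element of the kernel commuting with the members over a hyperbolic pair and over its
perpendicular is central. -/
theorem Cover.central : ∀ (n : ℕ) {G : Type u} [Group G] [Finite G] {D : Set G} {π : G →* suG B}
    (C : Cover D π) {p f : V}, Pair B p f → ∀ c : G, π c = 1 → Nat.card G = n →
      (∀ d, Base C p f d → Commute c d) → c ∈ Subgroup.center G := by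
  intro n
  induction n using Nat.strong_induction_on with
  | h n ih =>
  intro G _ _ D π C p f hP c hc hn hbase
  have hB := C.sp
  have fin : (∀ v : Pt B, Good C c v) → c ∈ Subgroup.center G := fun h =>
    Subgroup.mem_center_iff.2 fun g => (ThreeTrans.commute_all C.cls.2.2 (fun d hd => by
      obtain ⟨v, hv⟩ := C.exists_point hd
      exact h v d hd hv) g).eq.symm
  have hbv : ∀ v : Pt B, (v.1 = p ∨ v.1 = f ∨ Perp B p f v.1) → Good C c v :=
    fun v hv d hd hdv => hbase d ⟨hd, v, hdv, hv⟩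
  by_cases hker : π.ker = ⊥
  · rw [← MonoidHom.mem_ker, hker, Subgroup.mem_bot] at hc
    rw [hc]; exact Subgroup.one_mem _
  -- a minimal normal subgroup inside the kernel
  obtain ⟨N, hN, hmin⟩ := Set.exists_min_image
    {N : Subgroup G | N.Normal ∧ N ≠ ⊥ ∧ N ≤ π.ker} (fun N => Nat.card N) (Set.toFinite _)
    ⟨π.ker, inferInstance, hker, le_rfl⟩
  obtain ⟨hNn, hN0, hNle⟩ := hN
  have := hNn
  have hsmall : ∀ M : Subgroup G, M.Normal → M ≤ N → M = ⊥ ∨ M = N := by
    intro M hM hMN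
    by_cases hM0 : M = ⊥
    · exact Or.inl hM0
    · exact Or.inr (Subgroup.eq_of_le_of_card_ge hMN (hmin M ⟨hM, hM0, hMN.trans hNle⟩))
  have : Fact (Nat.Prime 2) := ⟨Nat.prime_two⟩
  have hNK : N ≤ Subgroup.centralizer (π.ker : Set G) := by
    rcases hsmall (N ⊓ Subgroup.centralizer (π.ker : Set G)) inferInstance inf_le_left with h | h
    · exfalso
      obtain ⟨x, hx, hx1⟩ : ∃ x ∈ N, x ∈ Subgroup.centralizer (π.ker : Set G) ∧ x ≠ 1 := by
        exact exists_fixed_of_pGroup C.ker2 hN0 hNle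
      exact hx1.2 (Subgroup.mem_bot.1 (h ▸ ⟨hx, hx1.1⟩))
    · exact h ▸ inf_le_right
  have hcommN : ∀ x ∈ N, ∀ a, π a = 1 → Commute x a := fun x hx a ha =>
    ((Subgroup.mem_centralizer_iff.1 (hNK hx)) a ha).symm
  have : IsMulCommutative N := IsMulCommutative.of_comm fun a b =>
    Subtype.ext (hcommN a a.2 b (hNle b.2))
  have hexp : ∀ x ∈ N, x * x = 1 := by
    let M : Subgroup G :=
      { carrier := {x | x ∈ N ∧ x * x = 1}
        one_mem' := ⟨N.one_mem, mul_one 1⟩
        mul_mem' := fun {a b} ha hb => ⟨N.mul_mem ha.1 hb.1, by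
          rw [show a * b * (a * b) = a * (b * a) * b by group,
            (hcommN b hb.1 a (hNle ha.1)).eq, show a * (a * b) * b = a * a * (b * b) by group,
            ha.2, hb.2, one_mul]⟩
        inv_mem' := fun {a} ha => ⟨N.inv_mem ha.1, by rw [← mul_inv_rev, ha.2, inv_one]⟩ }
    have hM : M.Normal := ⟨fun x hx g => ⟨hNn.conj_mem x hx.1 g, by
      rw [show g * x * g⁻¹ * (g * x * g⁻¹) = g * (x * x) * g⁻¹ by group, hx.2, mul_one,
        mul_inv_cancel]⟩⟩
    rcases hsmall M hM (fun x hx => hx.1) with h | h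
    · exfalso
      obtain ⟨x, hx⟩ := exists_prime_orderOf_dvd_card' (G := N) 2 (by
        obtain ⟨k, hk⟩ := IsPGroup.iff_card.1 (C.ker2.to_le hNle)
        rcases k with _ | k
        · exact absurd (Subgroup.card_eq_one.1 (by simpa using hk)) hN0
        · rw [hk]; exact dvd_pow_self 2 (Nat.succ_ne_zero k))
      have hxx : (x : G) ∈ M := ⟨x.2, by
        rw [← pow_two, ← Subgroup.coe_pow, ← hx, pow_orderOf_eq_one]; rfl⟩
      rw [h, Subgroup.mem_bot] at hxx
      rw [orderOf_eq_one_iff.2 (Subtype.ext hxx)] at hx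
      exact absurd hx (by norm_num)
    · intro x hx
      exact (h.symm ▸ hx : x ∈ M).2
  -- the quotient
  have hsub : N ≤ π.ker := hNle
  let π' : G ⧸ N →* suG B := QuotientGroup.lift N π hsub
  have hC' : Cover (QuotientGroup.mk' N '' D) π' := by
    refine ⟨hB, ⟨⟨?_, ?_⟩, ?_, ?_⟩, fun s => ?_, ?_, ?_⟩
    · rintro - ⟨d, hd, rfl⟩
      refine orderOf_eq_prime (by rw [← map_pow, pow_two, C.sq hd, map_one]) fun h => C.nt d hd ?_
      exact MonoidHom.mem_ker.1 (hsub ((QuotientGroup.eq_one_iff d).1 h))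
    · rintro - ⟨d, hd, rfl⟩ - ⟨e, he, rfl⟩
      rcases C.cls.1.2 d hd e he with h | h
      · exact Or.inl (by rw [← map_mul, ← map_pow, h, map_one])
      · exact Or.inr (by rw [← map_mul, ← map_pow, h, map_one])
    · obtain ⟨d₀, hd₀, hD⟩ := C.cls.2.1
      refine ⟨_, ⟨d₀, hd₀, rfl⟩, Set.ext fun x => ⟨?_, ?_⟩⟩
      · rintro ⟨d, hd, rfl⟩
        obtain ⟨g, hg⟩ := ThreeTrans.class_isConj C.cls hd₀ hd
        exact isConj_iff.2 ⟨QuotientGroup.mk' N g, by rw [← hg]; simp⟩
      · intro hx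
        obtain ⟨g, hg⟩ := isConj_iff.1 hx
        obtain ⟨g, rfl⟩ := QuotientGroup.mk'_surjective N g
        exact ⟨g * d₀ * g⁻¹, C.conj g hd₀, by rw [← hg]; simp⟩
    · rw [← MonoidHom.map_closure, C.cls.2.2,
        Subgroup.map_top_of_surjective _ (QuotientGroup.mk'_surjective N)]
    · obtain ⟨g, hg⟩ := C.surj s
      exact ⟨QuotientGroup.mk' N g, hg⟩
    · intro x
      obtain ⟨⟨x, hx⟩⟩ : Nonempty {y : G ⧸ N // y ∈ π'.ker} := ⟨x⟩
      rename_i x'
      obtain ⟨g, hg⟩ := QuotientGroup.mk'_surjective N x'.1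
      have hgk : g ∈ π.ker := by
        have := x'.2
        rw [← hg] at this
        exact this
      obtain ⟨k, hk⟩ := C.ker2 ⟨g, hgk⟩
      refine ⟨k, Subtype.ext ?_⟩
      rw [SubmonoidClass.coe_pow, ← hg, ← map_pow,
        show g ^ 2 ^ k = 1 by simpa using congrArg Subtype.val hk, map_one]
      rfl
    · rintro - ⟨d, hd, rfl⟩
      exact C.nt d hd
  have hlt : Nat.card (G ⧸ N) < n := by
    rw [← hn, N.card_eq_card_quotient_mul_card_subgroup]
    exact lt_mul_of_one_lt_right Nat.card_pos ((Subgroup.one_lt_card_iff_ne_bot N).2 hN0)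
  have hbar := ih _ hlt hC' hP (QuotientGroup.mk' N c) hc rfl (by
    rintro - ⟨⟨d, hd, rfl⟩, v, hv, hv'⟩
    exact (hbase d ⟨hd, v, hv, hv'⟩).map _)
  have hcomm : ∀ g : G, ∃ x ∈ N, c * g = g * c * x := fun g => by
    refine ⟨(g * c)⁻¹ * (c * g), ?_, by group⟩
    rw [← QuotientGroup.eq_one_iff]
    show QuotientGroup.mk' N ((g * c)⁻¹ * (c * g)) = 1
    rw [map_mul, map_inv, map_mul, map_mul, Subgroup.mem_center_iff.1 hbar (QuotientGroup.mk' N g),
      inv_mul_cancel]
  have hcD : ∀ d ∈ D, d * (c * d * c⁻¹) ∈ N := fun d hd => by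
    obtain ⟨x, hx, he⟩ := hcomm d
    rw [he, show d * (d * c * x * c⁻¹) = (d * d) * (c * x * c⁻¹) by group, C.sq hd, one_mul]
    exact hNn.conj_mem x hx c
  by_cases hcen : ∀ x ∈ N, ∀ g, Commute x g
  · -- trivial action on `N`
    refine fin fun v d hd _ => ?_
    obtain ⟨dp, hdp, hvp⟩ := C.exists_member ⟨p, hP.left_ne hB, hP.pp⟩
    obtain ⟨g, hg⟩ := ThreeTrans.class_isConj C.cls hdp hd
    obtain ⟨x, hx, he⟩ := hcomm g
    have h1 : Commute c dp := hbase dp ⟨hdp, _, hvp, Or.inl rfl⟩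
    have h2 : Commute (g⁻¹ * c * g) dp := by
      rw [show g⁻¹ * c * g = c * x by rw [mul_assoc, he]; group]
      exact h1.mul_left (hcen x hx dp)
    have := (commute_conj_iff' g _ _).2 h2
    rwa [hg, show g * (g⁻¹ * c * g) * g⁻¹ = c by group] at this
  have hfix : ∀ x ∈ N, (∀ d ∈ D, Commute x d) → x = 1 := by
    intro x hx hxd
    rcases hsmall (N ⊓ Subgroup.center G) inferInstance inf_le_left with h | h
    · have : x ∈ N ⊓ Subgroup.center G := ⟨hx, Subgroup.mem_center_iff.2 fun g =>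
        (ThreeTrans.commute_all C.cls.2.2 hxd g).eq.symm⟩
      rwa [h, Subgroup.mem_bot] at this
    · refine absurd (fun y hy g => ?_) hcen
      have : y ∈ Subgroup.center G := (h.symm ▸ hy : y ∈ N ⊓ Subgroup.center G).2
      exact (Subgroup.mem_center_iff.1 this g).symm
  -- `c` commutes with the kernel
  have hK : ∀ a, π a = 1 → Commute c a := by
    intro a ha
    obtain ⟨x, hx, he⟩ := hcomm a
    have hn : c * a * c⁻¹ * a⁻¹ ∈ N := by
      rw [he, show a * c * x * c⁻¹ * a⁻¹ = (a * c) * x * (a * c)⁻¹ by group]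
      exact hNn.conj_mem x hx _
    suffices h : c * a * c⁻¹ * a⁻¹ = 1 by
      show c * a = a * c
      rwa [mul_inv_eq_one, mul_inv_eq_iff_eq_mul] at h
    refine hfix _ hn fun d hd => ?_
    set n := c * a * c⁻¹ * a⁻¹
    -- mates of a member
    have hmate : Commute c (d * (a * d * a⁻¹)) := by
      obtain ⟨dp, hdp, hvp⟩ := C.exists_member ⟨p, hP.left_ne hB, hP.pp⟩
      obtain ⟨g, hg⟩ := ThreeTrans.class_isConj C.cls hdp hd
      set a' := g⁻¹ * a * g
      have ha' : π a' = 1 := by simp [a', map_mul, ha]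
      have h1 : Commute c dp := hbase dp ⟨hdp, _, hvp, Or.inl rfl⟩
      have h2 : Commute c (a' * dp * a'⁻¹) := hbase _ ⟨C.conj a' hdp, _, by
        rw [map_mul, map_mul, map_inv, ha', hvp, one_mul, inv_one, mul_one], Or.inl rfl⟩
      obtain ⟨y, hy, hey⟩ := hcomm g
      have h3 : Commute (g⁻¹ * c * g) (dp * (a' * dp * a'⁻¹)) := by
        rw [show g⁻¹ * c * g = c * y by rw [mul_assoc, hey]; group]
        refine (h1.mul_right h2).mul_left (hcommN y hy _ ?_)
        rw [map_mul, map_mul, map_mul, map_inv, ha', hvp, one_mul, inv_one, mul_one, tr_sq]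
      have := (commute_conj_iff' g _ _).2 h3
      rwa [show g * (g⁻¹ * c * g) * g⁻¹ = c by group,
        show g * (dp * (a' * dp * a'⁻¹)) * g⁻¹ = g * dp * g⁻¹ * (a * (g * dp * g⁻¹) * a⁻¹) by
          simp only [a']; group, hg] at this
    obtain ⟨w, hw, hew⟩ : ∃ w ∈ N, c * d * c⁻¹ = d * w := by
      exact ⟨d * (c * d * c⁻¹), hcD d hd, by rw [← mul_assoc, C.sq hd, one_mul]⟩
    set α := d * (a * d * a⁻¹) with hαdef
    have hα : π α = 1 := by
      obtain ⟨v, hv⟩ := C.exists_point hd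
      rw [hαdef, map_mul, map_mul, map_mul, map_inv, ha, one_mul, inv_one, mul_one, hv, tr_sq]
    have hdw : d * w * (d * w) = 1 := by
      rw [← hew, show c * d * c⁻¹ * (c * d * c⁻¹) = c * (d * d) * c⁻¹ by group, C.sq hd, mul_one,
        mul_inv_cancel]
    have hna : c * a * c⁻¹ = n * a := by simp only [n]; group
    have key : d * w * (n * a) * (d * w) = α * (n * a) := by
      have e : d * a * d = α * a := by simp only [hαdef]; group
      calc d * w * (n * a) * (d * w) = (c * d * c⁻¹) * (c * a * c⁻¹) * (c * d * c⁻¹) := by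
            rw [hew, hna]
        _ = c * (d * a * d) * c⁻¹ := by group
        _ = (c * α * c⁻¹) * (c * a * c⁻¹) := by rw [e]; group
        _ = α * (n * a) := by rw [hna, hmate.eq, mul_inv_cancel_right]
    have hna1 : π (n * a) = 1 := by
      rw [map_mul, MonoidHom.mem_ker.1 (hsub hn), ha, one_mul]
    rw [show d * w * (n * a) = d * (w * (n * a)) by group, (hcommN w hw _ hna1).eq,
      show d * (n * a * w) * (d * w) = d * (n * a) * d⁻¹ * (d * w * (d * w)) by group, hdw, mul_one,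
      C.inv hd, ← mul_assoc α n, (hcommN n hn α hα).symm.eq,
      show n * α * a = n * (d * a * d) by simp only [hαdef]; group] at key
    show n * d = d * n
    have h5 : d * n = n * d := by
      apply mul_right_cancel (b := a * d)
      calc d * n * (a * d) = d * (n * a) * d := by group
        _ = n * (d * a * d) := key
        _ = n * d * (a * d) := by group
    exact h5.symm
  -- conclusion
  refine fin (C.good_all hP (fun v h => hbv v (Or.inl h)) (fun v h => hbv v (Or.inr (Or.inl h)))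
    (fun v h => hbv v (Or.inr (Or.inr h))) (fun m hm hm0 hmm v hv => ?_) (fun m hm hm0 hmm v hv => ?_))
  · exact C.good_line hsub hexp hP hbase hK hcD hm hm0 hmm hv
  · refine C.good_line hsub hexp (hP.symm hB) ?_ hK hcD ⟨hm.2, hm.1⟩ hm0 hmm hv
    rintro d ⟨hd, w, hw, h | h | h⟩
    · exact hbase d ⟨hd, w, hw, Or.inr (Or.inl h)⟩
    · exact hbase d ⟨hd, w, hw, Or.inl h⟩
    · exact hbase d ⟨hd, w, hw, Or.inr (Or.inr ⟨h.2, h.1⟩)⟩

end Cfsg.Agent.TransUnique.UG
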