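import Cfsg.Agent.TransUnique.U.Ops

/-!
# The maps of the triangles through a point

With `(p, f)` a hyperbolic pair, `kap m` is the map on the image of `A p` given by `f` and the
point `f + ω p + m`, for a unit vector `m` of the perpendicular.
-/

set_option autoImplicit false
set_option linter.unusedSectionVars false

open Cfsg Cfsg.Agent.Classical Cfsg.Agent.Classical.Herm Module
open scoped IsMulCommutative

namespace Cfsg.Agent.TransUnique.UG

variable {F V : Type*} [Field F] [AddCommGroup V] [Module F V] {θ : F →+* F}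
  {B : V →ₛₗ[θ] V →ₗ[F] F} {G : Type*} [Group G] [Finite G] {D : Set G} {π : G →* suG B}
  {W : Subgroup G} [W.Normal] [IsMulCommutative W] (S : Sect D π W) {p f : V}

include S

/-- The image of `A p`. -/
def InA (S : Sect D π W) (p : V) (u : Additive W) : Prop := ∃ m, A S p m = u

/-- The map of the triangle `(p, y, z)`. -/
noncomputable def nuA (S : Sect D π W) (p y z : V) (u : Additive W) : Additive W :=
  A S p (A S y (A S z u))

theorem Sect.in_kill {x : V} (hx : B p x = 0) {u : Additive W} (hu : InA S p u) :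
    A S x u = 0 := by
  obtain ⟨m, rfl⟩ := hu
  exact S.A_comm ((symm_zero S.cov.sp).1 hx) m

theorem Sect.in_fix {y : V} (hp : B p p = 0) (hy : B y y = 0) (h : B p y ≠ 0) {u : Additive W}
    (hu : InA S p u) : A S p (A S y u) = u := by
  obtain ⟨m, rfl⟩ := hu
  exact S.A_ncomm hp hy h m

theorem Sect.in_nu (p y z : V) (u : Additive W) : InA S p (nuA S p y z u) := ⟨_, rfl⟩

theorem Sect.rho_member {d : G} (hd : d ∈ D) {x : Pt B} (hv : π d = tr S.cov.sp x)
    (m : Additive W) : rep W d m = A S x.1 m + m := by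
  rw [S.A_member hd hv, ← S.rel.rho_eq]

/-- `h` moves `y` to `f`, fixes `p` and the image of `A p`, and translates the perpendicular. -/
def Moves (S : Sect D π W) (p f y : V) (m : V) (h : G) : Prop :=
  (π h).1 y = f ∧ (π h).1 p = p ∧ (∀ u, InA S p u → rep W h u = u) ∧
    ∀ v, Perp B p f v → (π h).1 v = v + B m v • p

/-- One translation by an isotropic vector. -/
theorem Sect.exists_eichler (hP : Pair B p f) {m : V} (hm : Perp B p f m) (hmm : B m m = 0) :
    ∃ h : G, (π h).1 p = p ∧ (∀ u, InA S p u → rep W h u = u) ∧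
      (∀ v, Perp B p f v → (π h).1 v = v + B m v • p) ∧
      ∀ (α : F) (n : V), Perp B p f n → ∃ α' : F,
        (π h).1 (f + α • p + n) = f + α' • p + (n + m) := by
  have hB := S.cov.sp
  have hc := charTwo hB
  by_cases hm0 : m = 0
  · subst hm0
    refine ⟨1, by simp, fun u _ => rho_one_apply _ _, fun v _ => by simp, fun α n _ => ⟨α, by simp⟩⟩
  have hq0 : p + m ≠ 0 := fun h => by
    have := congrArg (B f) h
    simp [hP.fp hB, hm.2] at this
  have hmp := (hm.left hB).1
  have hmf := (hm.left hB).2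
  have hqq : B (p + m) (p + m) = 0 := by simp [hP.pp, hm.1, hmp, hmm]
  obtain ⟨d₁, h₁, e₁⟩ := S.cov.exists_member ⟨m, hm0, hmm⟩
  obtain ⟨d₂, h₂, e₂⟩ := S.cov.exists_member ⟨p + m, hq0, hqq⟩
  have hact : ∀ x, (π (d₁ * d₂)).1 x = (tr hB ⟨m, hm0, hmm⟩).1 ((tr hB ⟨p + m, hq0, hqq⟩).1 x) :=
    fun x => by rw [map_mul, e₁, e₂]; rfl
  refine ⟨d₁ * d₂, ?_, ?_, ?_, ?_⟩
  · rw [hact]; simp [tr_apply, hP.pp, hmp]
  · intro u hu
    rw [rho_mul_apply, S.rho_member h₂ e₂, S.in_kill (by simp [hP.pp, hm.1]) hu, zero_add,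
      S.rho_member h₁ e₁, S.in_kill hm.1 hu, zero_add]
  · intro v hv
    rw [hact]; simp [tr_apply, hmp, hmm, hv.1]
    match_scalars
    all_goals grind
  · intro α n hn
    refine ⟨α + 1 + B m n, ?_⟩
    rw [hact]; simp [tr_apply, hP.pp, hP.pf, hm.1, hmp, hmf, hmm, hn.1]
    match_scalars
    all_goals grind

theorem Sect.exists_moves (hP : Pair B p f) {α : F} {m : V} (hm : Perp B p f m)
    (hiso : B (f + α • p + m) (f + α • p + m) = 0) : ∃ h : G, Moves S p f (f + α • p + m) m h := by
  have hB := S.cov.sp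
  have hc := charTwo hB
  -- a translation killing `m`
  obtain ⟨h, h1, h2, h3, α', h4⟩ : ∃ h : G, (π h).1 p = p ∧ (∀ u, InA S p u → rep W h u = u) ∧
      (∀ v, Perp B p f v → (π h).1 v = v + B m v • p) ∧
      ∃ α' : F, (π h).1 (f + α • p + m) = f + α' • p := by
    rcases self_cases hB m with hmm | hmm
    · obtain ⟨h, h1, h2, h3, h4⟩ := S.exists_eichler hP hm hmm
      obtain ⟨α', hα'⟩ := h4 α m hm
      exact ⟨h, h1, h2, h3, α', by rw [hα', vadd_self hB, add_zero]⟩
    · obtain ⟨m₁, hm₁, -, hm₁i, hm₁m⟩ := hP.exists_iso hB hm hmm (c := om hB) (om_ne hB)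
      have hm₂ : Perp B p f (m + m₁) := by constructor <;> simp [hm.1, hm.2, hm₁.1, hm₁.2]
      have hm₂i : B (m + m₁) (m + m₁) = 0 := by
        have e : B m m₁ = θ (om hB) := by rw [← hm₁m, hB.herm.symm]
        simp [hmm, hm₁i, hm₁m, e, om_conj hB]
        grind
      obtain ⟨g, g1, g2, g3, g4⟩ := S.exists_eichler hP hm₁ hm₁i
      obtain ⟨k, k1, k2, k3, k4⟩ := S.exists_eichler hP hm₂ hm₂i
      obtain ⟨α₁, hα₁⟩ := g4 α m hm
      obtain ⟨α₂, hα₂⟩ := k4 α₁ (m + m₁) hm₂
      have hkg : ∀ x, (π (k * g)).1 x = (π k).1 ((π g).1 x) := fun x => by rw [map_mul]; rfl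
      refine ⟨k * g, by rw [hkg, g1, k1], fun u hu => by rw [rho_mul_apply, g2 u hu, k2 u hu],
        fun v hv => ?_, α₂, by rw [hkg, hα₁, hα₂, vadd_self hB, add_zero]⟩
      rw [hkg, g3 v hv, map_add, map_smul, k3 v hv, k1, map_add, LinearMap.add_apply]
      match_scalars
      all_goals grind
  -- the last transvection
  have hiso' : B (f + α' • p) (f + α' • p) = 0 := by rw [← h4, (π h).2.1]; exact hiso
  simp [hP.ff, hP.pf, hP.fp hB, hP.pp] at hiso'
  rcases hB.fixed α' (by grind) with ha | ha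
  · refine ⟨h, ?_, h1, h2, h3⟩
    rw [h4, ha, zero_smul, add_zero]
  · obtain ⟨d, hd, e⟩ := S.cov.exists_member ⟨p, hP.left_ne hB, hP.pp⟩
    have hdh : ∀ x, (π (d * h)).1 x = (tr hB ⟨p, hP.left_ne hB, hP.pp⟩).1 ((π h).1 x) :=
      fun x => by rw [map_mul, e]; rfl
    refine ⟨d * h, ?_, ?_, fun u hu => ?_, fun v hv => ?_⟩
    · rw [hdh, h4, ha, tr_apply]
      simp [hP.pp, hP.pf, add_assoc, vadd_self hB]
    · rw [hdh, h1, tr_apply]
      simp [hP.pp]
    · rw [rho_mul_apply, h2 u hu, S.rho_member hd e, S.in_kill hP.pp hu, zero_add]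
    · rw [hdh, h3 v hv, tr_apply]
      simp [hP.pp, hv.1]

/-- Invariance of the triangle maps. -/
theorem Sect.nu_move {h : G} (h1 : (π h).1 p = p) (h2 : ∀ u, InA S p u → rep W h u = u)
    (y z : V) {u : Additive W} (hu : InA S p u) :
    nuA S p ((π h).1 y) ((π h).1 z) u = nuA S p y z u := by
  conv_lhs => rw [nuA, ← h2 u hu, S.A_conj, S.A_conj, ← h1, S.A_conj]
  exact h2 _ (S.in_nu p y z u)

/-- The map of the point `f + ω p + m`. -/
noncomputable def kap (S : Sect D π W) (p f m : V) (u : Additive W) : Additive W :=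
  nuA S p f (f + om S.cov.sp • p + m) u

theorem Sect.kap_add (p f m : V) (u v : Additive W) :
    kap S p f m (u + v) = kap S p f m u + kap S p f m v := by
  simp only [kap, nuA, map_add]

variable (hP : Pair B p f)
include hP

theorem Sect.kap_iso {m : V} (hm : Perp B p f m) (hmm : B m m = 1) :
    B (f + om S.cov.sp • p + m) (f + om S.cov.sp • p + m) = 0 := by
  have hB := S.cov.sp
  have hc := charTwo hB
  simp [hP.ff, hP.pf, hP.fp hB, hP.pp, hm.1, hm.2, (hm.left hB).1, (hm.left hB).2, hmm, om_conj hB]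
  grind

/-- Reflecting the second point in `p` adds the identity. -/
theorem Sect.nu_flip {y z : V} (hz : B z z = 0) (hpy : B p y ≠ 0) (hy : B y y = 0)
    (hpz : B p z = 1) {u : Additive W} (hu : InA S p u) :
    nuA S p y (z + p) u = nuA S p y z u + u := by
  have hz0 : z ≠ 0 := fun h => by simp [h] at hpz
  have hB := S.cov.sp
  have hp0 : p ≠ 0 := hP.left_ne hB
  have e := fun m => S.A_tmove hP.pp hp0 hz hz0 m
  rw [hpz, one_smul] at e
  rw [nuA, e, S.in_kill hP.pp hu, zero_add, map_add, map_add,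
    S.in_fix hP.pp hz (by rw [hpz]; exact one_ne_zero) hu, S.in_fix hP.pp hy hpy hu, add_comm]
  rfl

theorem Sect.nu_self_inv {y z : V} (hy : B y y = 0) (hz : B z z = 0) (hpy : B p y ≠ 0)
    (hpz : B p z ≠ 0) (hyz : B y z ≠ 0) {u : Additive W} (hu : InA S p u) :
    nuA S p y z (nuA S p z y u) = u := by
  have hB := S.cov.sp
  rw [nuA, nuA, S.A_ncomm hz hP.pp (fun h => hpz ((symm_zero hB).1 h)), S.A_ncomm hy hz hyz,
    S.in_fix hP.pp hy hpy hu]

theorem Sect.kap_swap {m : V} (hm : Perp B p f m) (hmm : B m m = 1) {u : Additive W}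
    (hu : InA S p u) : nuA S p (f + om S.cov.sp • p + m) f u = kap S p f m u + u := by
  have hB := S.cov.sp
  have hc := charTwo hB
  set y := f + om hB • p + m with hy
  have hyy : B y y = 0 := S.kap_iso hP hm hmm
  have hy0 : y ≠ 0 := fun h => by
    have := congrArg (B p) h
    simp [hy, hP.pf, hP.pp, hm.1] at this
  have hpy : B p y = 1 := by simp [hy, hP.pf, hP.pp, hm.1]
  set z := y + p with hz
  have hzz : B z z = 0 := by
    simp [hz, hyy, hP.pp, hpy, symm_one hB hpy]
    grind
  have hfz : B f z ≠ 0 := by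
    simp [hz, hy, hP.ff, hP.fp hB, hm.2]
    exact om_ne_one hB
  -- the relation between `f` and the reflected point
  have h := S.A_ncomm hP.ff hzz hfz u
  have hp0 : p ≠ 0 := hP.left_ne hB
  have e := fun m => S.A_tmove hP.pp hp0 hyy hy0 m
  rw [hpy, one_smul] at e
  rw [e, S.in_fix hP.pp hP.ff (by rw [hP.pf]; exact one_ne_zero) hu] at h
  have hfy : B f y ≠ 0 := by
    simp [hy, hP.ff, hP.fp hB, hm.2]
    exact om_ne hB
  have h1 : A S f (A S y (A S f u)) = A S f u := S.A_ncomm hP.ff hyy hfy u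
  have h2 : A S p (A S y u) = u := S.in_fix hP.pp hyy (by rw [hpy]; exact one_ne_zero) hu
  simp only [map_add, h1, h2] at h
  have h' := congrArg (A S p) h
  simp only [map_add, S.in_fix hP.pp hP.ff (by rw [hP.pf]; exact one_ne_zero) hu] at h'
  rw [S.in_fix hP.pp hP.ff (by rw [hP.pf]; exact one_ne_zero)
    (⟨_, rfl⟩ : InA S p (A S p (A S y (A S f u))))] at h'
  show A S p (A S y (A S f u)) = _
  change u + A S p (A S y (A S f u)) + (kap S p f m u + u) = u at h'
  rw [show u + A S p (A S y (A S f u)) + (kap S p f m u + u) =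
    (A S p (A S y (A S f u)) + kap S p f m u) + (u + u) by abel, S.two, add_zero] at h'
  rw [← S.rel.two_left (kap S p f m u) (A S p (A S y (A S f u))), add_comm (kap S p f m u)
    (A S p (A S y (A S f u))), h']

theorem Sect.kap_quad {m : V} (hm : Perp B p f m) (hmm : B m m = 1) {u : Additive W}
    (hu : InA S p u) : kap S p f m (kap S p f m u) + kap S p f m u + u = 0 := by
  have hB := S.cov.sp
  have hfy : B f (f + om hB • p + m) ≠ 0 := by
    simp [hP.ff, hP.fp hB, hm.2]
    exact om_ne hB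
  have hpy : B p (f + om hB • p + m) ≠ 0 := by simp [hP.pf, hP.pp, hm.1]
  have h := S.nu_self_inv hP hP.ff (S.kap_iso hP hm hmm) (by rw [hP.pf]; exact one_ne_zero) hpy hfy hu
  rw [S.kap_swap hP hm hmm hu] at h
  change kap S p f m (kap S p f m u + u) = u at h
  rw [S.kap_add] at h
  rw [h, S.two]

/-- Points on a line through `r ⊥ p`: the four maps add up to zero. -/
theorem Sect.kap_sum {m r : V} (hm : Perp B p f m) (hmm : B m m = 1) (hr : Perp B p f r)
    (hr0 : r ≠ 0) (hrr : B r r = 0) (hmr : B m r = 0) (u : Additive W) (hu : InA S p u) :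
    kap S p f m u + kap S p f (m + r) u + kap S p f (m + om S.cov.sp • r) u +
      kap S p f (m + (om S.cov.sp + 1) • r) u = 0 := by
  have hB := S.cov.sp
  set y := f + om hB • p + m with hy
  have hind : ∀ k : F, y + k • r ≠ 0 := fun k h => by
    have := congrArg (B p) h
    simp [hy, hP.pf, hP.pp, hm.1, hr.1] at this
  have h := S.five (v := y) (w := r) (S.kap_iso hP hm hmm) hrr
    (by simp [hy, (hr.left hB).1, (hr.left hB).2, hmr, (symm_zero hB).1 hmr,
      hr.1, hr.2]) hr0 hind u
  have h' := congrArg (fun z => A S p (A S f z)) h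
  simp only [map_add, map_zero, S.in_kill hr.1 hu, add_zero] at h'
  simp only [kap, nuA, ← add_assoc (f + om hB • p) m]
  exact h'

/-- Orthogonal unit vectors give the same map. -/
theorem Sect.kap_orth {m n : V} (hm : Perp B p f m) (hmm : B m m = 1) (hn : Perp B p f n)
    (hnn : B n n = 1) (hmn : B m n = 0) {u : Additive W} (hu : InA S p u) :
    kap S p f m u = kap S p f n u := by
  have hB := S.cov.sp
  have hc := charTwo hB
  have hnm := (symm_zero hB).1 hmn
  set y := f + om hB • p + m with hy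
  set m₀ := m + n with hm₀
  set q := p + m₀ with hq
  have hm₀p : Perp B p f m₀ := by constructor <;> simp [hm₀, hm.1, hm.2, hn.1, hn.2]
  have hm₀i : B m₀ m₀ = 0 := by simp [hm₀, hmm, hnn, hmn, hnm]; grind
  have hpy : B p y = 1 := by simp [hy, hP.pf, hP.pp, hm.1]
  have hqq : B q q = 0 := by simp [hq, hP.pp, hm₀p.1, (hm₀p.left hB).1, hm₀i]
  have hq0 : q ≠ 0 := fun h => by
    have := congrArg (B f) h
    simp [hq, hP.fp hB, hm₀p.2] at this
  have hyq : B y q = 0 := by
    simp [hy, hq, hm₀, hP.pp, hP.fp hB, hm.1, hm.2, hn.1, hn.2, (hm.left hB).1, hmm, hmn]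
    grind
  have hind : ∀ k : F, y + k • q ≠ 0 := fun k h => by
    have := congrArg (B p) h
    simp [hpy, hq, hP.pp, hm₀p.1] at this
  have h := S.five (v := y) (w := q) (S.kap_iso hP hm hmm) hqq hyq hq0 hind u
  have hpq : B p q = 0 := by simp [hq, hP.pp, hm₀p.1]
  have hf : B p f ≠ 0 := by rw [hP.pf]; exact one_ne_zero
  -- the third point
  set z₁ := f + om hB • p + n with hz₁
  have hz₁i : B z₁ z₁ = 0 := S.kap_iso hP hn hnn
  have hpz₁ : B p z₁ = 1 := by simp [hz₁, hP.pf, hP.pp, hn.1]
  have e1 : y + q = z₁ + p := by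
    rw [hy, hq, hm₀, hz₁, show f + om hB • p + m + (p + (m + n)) =
      f + om hB • p + n + p + (m + m) by abel, vadd_self hB, add_zero]
  have t1 : A S p (A S f (A S (y + q) u)) = kap S p f n u + u := by
    rw [e1]; exact S.nu_flip hP hz₁i hf hP.ff hpz₁ hu
  -- the fourth commutes with `f`, the fifth is a reflection of such a point
  have e2 : y + om hB • q = f + (m + om hB • m₀) := by
    rw [hy, hq, smul_add, show f + om hB • p + m + (om hB • p + om hB • m₀) =
      f + (m + om hB • m₀) + (om hB • p + om hB • p) by abel, vadd_self hB, add_zero]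
  have t2 : A S p (A S f (A S (y + om hB • q) u)) = 0 := by
    rw [e2, S.A_comm (x := f) (y := f + (m + om hB • m₀)) (by simp [hP.ff, hm.2, hm₀p.2]), map_zero]
  set z₂ := f + (m + (om hB + 1) • m₀) with hz₂
  have e3 : y + (om hB + 1) • q = z₂ + p := by
    rw [hy, hq, hz₂, smul_add, add_smul (om hB) 1 p, one_smul, show f + om hB • p + m +
      (om hB • p + p + (om hB + 1) • m₀) = f + (m + (om hB + 1) • m₀) + p + (om hB • p + om hB • p) by
      abel, vadd_self hB, add_zero]
  have hz₂i : B z₂ z₂ = 0 := by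
    have h0 : B (y + (om hB + 1) • q) (y + (om hB + 1) • q) = 0 := by
      have := (symm_zero hB).1 hyq
      have hyy : B y y = 0 := S.kap_iso hP hm hmm
      simp [hyy, hqq, hyq, this]
    rw [e3] at h0
    have e : B z₂ p = 1 := symm_one hB (by simp [hz₂, hP.pf, hm.1, hm₀p.1])
    simp [e, symm_one hB e, hP.pp] at h0
    grind
  have t3 : A S p (A S f (A S (y + (om hB + 1) • q) u)) = u := by
    rw [e3]
    have := S.nu_flip hP hz₂i hf hP.ff (by simp [hz₂, hP.pf, hm.1, hm₀p.1]) hu
    rw [nuA, nuA, S.A_comm (x := f) (y := z₂) (by simp [hz₂, hP.ff, hm.2, hm₀p.2]), map_zero,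
      zero_add] at this
    exact this
  have h' := congrArg (fun z => A S p (A S f z)) h
  simp only [map_add, map_zero, t1, t2, t3, S.in_kill hpq hu, add_zero] at h'
  change kap S p f m u + (kap S p f n u + u) + u = 0 at h'
  rw [show kap S p f m u + (kap S p f n u + u) + u = (kap S p f m u + kap S p f n u) + (u + u) by
    abel, S.two, add_zero] at h'
  exact S.rel.eq_of_add h'

theorem Sect.kap_smul {m : V} (hm : Perp B p f m) (hmm : B m m = 1) {k : F} (hk : k ≠ 0)
    {u : Additive W} (hu : InA S p u) : kap S p f (k • m) u = kap S p f m u := by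
  have hB := S.cov.sp
  obtain ⟨e, he, hee, hme, hem⟩ := hP.exists_unit_perp hB hm hmm
  rw [S.kap_orth hP hm hmm he hee hme hu, S.kap_orth hP (m := k • m)
    (by constructor <;> simp [hm.1, hm.2]) (by simp [hmm]; first | exact norm_one hB hk | (rw [mul_comm]; exact norm_one hB hk)) he hee
    (by simp [hme]) hu]

/-- The product relation. -/
theorem Sect.kap_mul {m n : V} (hm : Perp B p f m) (hmm : B m m = 1) (hn : Perp B p f n)
    (hnn : B n n = 1) (hmn : B m n = 1) {u : Additive W} (hu : InA S p u) :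
    kap S p f (m + om S.cov.sp • n) u =
      kap S p f m (kap S p f n u + u) + (kap S p f n u + u) := by
  have hB := S.cov.sp
  have hc := charTwo hB
  set y := f + om hB • p + m with hy
  set z := f + om hB • p + n with hz
  have hyy : B y y = 0 := S.kap_iso hP hm hmm
  have hzz : B z z = 0 := S.kap_iso hP hn hnn
  have hy0 : y ≠ 0 := fun h => by
    have := congrArg (B p) h
    simp [hy, hP.pf, hP.pp, hm.1] at this
  have hz0 : z ≠ 0 := fun h => by
    have := congrArg (B p) h
    simp [hz, hP.pf, hP.pp, hn.1] at this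
  have hpy : B p y = 1 := by simp [hy, hP.pf, hP.pp, hm.1]
  have hpz : B p z = 1 := by simp [hz, hP.pf, hP.pp, hn.1]
  have hyz : B y z = 0 := by
    simp [hy, hz, hP.pp, hP.ff, hP.pf, hP.fp hB, hn.1, hn.2, (hm.left hB).1, (hm.left hB).2, hmn,
      om_conj hB]
    grind
  have hfz : B f z = om hB := by simp [hz, hP.ff, hP.fp hB, hn.2]
  obtain ⟨h, hy', hp', hfix, hperp⟩ := S.exists_moves hP (α := om hB) hm hyy
  -- the reflected point and its image
  set z' := z + om hB • f with hz'
  have hn' : Perp B p f (m + om hB • n) := by constructor <;> simp [hm.1, hm.2, hn.1, hn.2]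
  have himg : (π h).1 (om hB • z') = f + om hB • p + (m + om hB • n) := by
    have e : om hB • z' = y + (p + (m + om hB • n)) := by
      rw [hz', hz, hy]
      match_scalars
      all_goals grind [om_sq hB]
    rw [e, map_add, hy', map_add, hp', hperp _ hn']
    have e2 : B m (m + om hB • n) = 1 + om hB := by simp [hmm, hmn]
    rw [e2]
    match_scalars
    all_goals grind
  have key : nuA S p y z' u = kap S p f (m + om hB • n) u := by
    rw [kap, ← himg, ← hy', S.nu_move hp' hfix y _ hu, nuA, nuA, S.A_smul (om_ne hB)]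
  rw [← key, hz', ← hfz, nuA, S.A_tmove hP.ff (hP.right_ne hB) hzz hz0]
  simp only [map_add, S.A_comm hyz, map_zero, add_zero]
  -- `bab = b` moves the inner map into the image of `A p`
  have hfp : B f p ≠ 0 := by rw [hP.fp hB]; exact one_ne_zero
  have hbz : ∀ w, A S f (A S z (A S f w)) = A S f w := fun w =>
    S.A_ncomm hP.ff hzz (by rw [hfz]; exact om_ne hB) w
  rw [hbz, ← S.A_ncomm hP.ff hP.pp hfp (A S z u), ← map_add, ← map_add, ← map_add]
  have e := S.kap_swap hP hm hmm (u := u + kap S p f n u)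
    (by obtain ⟨w, hw⟩ := hu; exact ⟨w + A S f (A S z u), by rw [map_add, hw]; rfl⟩)
  simp only [nuA] at e
  rw [show A S p (A S f (A S z u)) = kap S p f n u from rfl, e]
  rw [S.kap_add, S.kap_add, add_comm (kap S p f n u) u]
  abel

end Cfsg.Agent.TransUnique.UG
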