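import Cfsg.Agent.TransUnique.U.Cover
import Cfsg.Agent.ThreeTrans.Central

/-!
# The operators of the points

The subgroup generated by the quotients of two members over the same point is elementary abelian
when the centre is trivial, and each point gives an operator on it.
-/

set_option autoImplicit false
set_option linter.unusedSectionVars false

open Cfsg Cfsg.Agent.Classical Cfsg.Agent.Classical.Herm Module
open scoped IsMulCommutative

namespace Cfsg.Agent.TransUnique.UG

variable {F V : Type*} [Field F] [AddCommGroup V] [Module F V] {θ : F →+* F}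
  {B : V →ₛₗ[θ] V →ₗ[F] F} {G : Type*} [Group G] {D : Set G} {π : G →* suG B}

/-- Quotients of two conjugate members over the same point. -/
def mateSet (D : Set G) (π : G →* suG B) : Set G :=
  {x | ∃ d ∈ D, ∃ a, π a = 1 ∧ x = d * (a * d * a⁻¹)}

/-- The subgroup they generate. -/
def mateGroup (D : Set G) (π : G →* suG B) : Subgroup G := Subgroup.closure (mateSet D π)

variable (C : Cover D π)
include C

theorem Cover.mateGroup_normal : (mateGroup D π).Normal := by
  refine ThreeTrans.closure_normal fun g x hx => ?_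
  obtain ⟨d, hd, a, ha, rfl⟩ := hx
  exact ⟨g * d * g⁻¹, C.conj g hd, g * a * g⁻¹, by simp [map_mul, map_inv, ha], by group⟩

theorem Cover.mateGroup_le : mateGroup D π ≤ π.ker := by
  rw [mateGroup, Subgroup.closure_le]
  rintro - ⟨d, hd, a, ha, rfl⟩
  rw [SetLike.mem_coe, MonoidHom.mem_ker, map_mul, map_mul, map_mul, map_inv, ha, one_mul, inv_one,
    mul_one, ← map_mul, C.sq hd, map_one]

theorem Cover.over_conj {d : G} {v : Pt B} (hv : π d = tr C.sp v) {a : G} (ha : π a = 1) :
    π (a * d * a⁻¹) = tr C.sp v := by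
  rw [map_mul, map_mul, map_inv, ha, hv, one_mul, inv_one, mul_one]

omit C in
theorem invol_mul {x y : G} (hx : x * x = 1) (hy : y * y = 1) (h : Commute x y) :
    x * y * (x * y) = 1 := by
  rw [mul_assoc, ← mul_assoc y, ← h.eq, mul_assoc x y y, hy, mul_one, hx]

variable [Finite G]

theorem Cover.mates_commute (hZ : Subgroup.center G = ⊥) {x y : G} (hx : x ∈ mateSet D π)
    (hy : y ∈ mateSet D π) : Commute x y := by
  have hB := C.sp
  obtain ⟨d, hd, a, ha, rfl⟩ := hx
  obtain ⟨e, he, b, hb, rfl⟩ := hy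
  obtain ⟨v, hv⟩ := C.exists_point hd
  obtain ⟨w, hw⟩ := C.exists_point he
  have hd' := C.conj a hd
  have he' := C.conj b he
  have hv' := C.over_conj hv ha
  have hw' := C.over_conj hw hb
  by_cases hvw : B v.1 w.1 = 0
  · exact ((C.commute hd he hv hw hvw).mul_right (C.commute hd he' hv hw' hvw)).mul_left
      ((C.commute hd' he hv' hw hvw).mul_right (C.commute hd' he' hv' hw' hvw))
  set α := d * (a * d * a⁻¹) with hα
  set β := e * (b * e * b⁻¹) with hβ
  have hα2 : α * α = 1 :=
    invol_mul (C.sq hd) (C.sq hd') (C.commute hd hd' hv hv' v.2.2)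
  have hβ2 : β * β = 1 :=
    invol_mul (C.sq he) (C.sq he') (C.commute he he' hw hw' w.2.2)
  have hπα : π α = 1 := by rw [hα, map_mul, hv, hv', tr_sq]
  have hπβ : π β = 1 := by rw [hβ, map_mul, hw, hw', tr_sq]
  set c := α * (β * α * β⁻¹) with hc
  have hπc : π c = 1 := by
    show π (α * (β * α * β⁻¹)) = 1
    rw [map_mul π α, map_mul π (β * α), map_mul π β, map_inv, hπα, hπβ]; simp
  have hc1 : c = d * (a * d * a⁻¹) * ((β * d * β⁻¹) * (β * (a * d * a⁻¹) * β⁻¹)) := by
    rw [hc, hα]; group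
  have hc2 : c = (α * e * α⁻¹) * (α * (b * e * b⁻¹) * α⁻¹) * (e * (b * e * b⁻¹)) := by
    rw [hc, inv_eq_of_mul_eq_one_left hβ2, show α * e * α⁻¹ * (α * (b * e * b⁻¹) * α⁻¹) =
      α * β * α⁻¹ by rw [hβ]; group, inv_eq_of_mul_eq_one_left hα2, ← hβ]
    group
  set k := (B v.1 w.1)⁻¹
  have hP : Pair B v.1 (k • w.1) :=
    ⟨v.2.2, by simp [w.2.2], by rw [map_smul, smul_eq_mul, inv_mul_cancel₀ hvw]⟩
  have hcen : c ∈ Subgroup.center G := by
    refine Cover.central _ C hP c hπc rfl ?_
    rintro x ⟨hx, u, hu, hcase⟩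
    have key1 : B v.1 u.1 = 0 → Commute c x := fun h => by
      rw [hc1]
      exact ((C.commute hd hx hv hu h).mul_left (C.commute hd' hx hv' hu h)).mul_left
        ((C.commute (C.conj β hd) hx (C.over_conj hv hπβ) hu h).mul_left
          (C.commute (C.conj β hd') hx (C.over_conj hv' hπβ) hu h))
    have key2 : B w.1 u.1 = 0 → Commute c x := fun h => by
      rw [hc2]
      exact ((C.commute (C.conj α he) hx (C.over_conj hw hπα) hu h).mul_left
        (C.commute (C.conj α he') hx (C.over_conj hw' hπα) hu h)).mul_left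
          ((C.commute he hx hw hu h).mul_left (C.commute he' hx hw' hu h))
    rcases hcase with h | h | h
    · exact key1 (by rw [h]; exact v.2.2)
    · exact key2 (by rw [h]; simp [w.2.2])
    · exact key1 h.1
  rw [hZ, Subgroup.mem_bot] at hcen
  have h1 : α * (β * α * β⁻¹) = 1 := hcen
  show α * β = β * α
  have h2 := eq_inv_of_mul_eq_one_left h1
  calc α * β = (β * α * β⁻¹)⁻¹ * β := by rw [← h2]
    _ = β * α⁻¹ := by group
    _ = β * α := by rw [inv_eq_of_mul_eq_one_left hα2]

theorem Cover.mateGroup_comm (hZ : Subgroup.center G = ⊥) : IsMulCommutative (mateGroup D π) :=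
  Subgroup.isMulCommutative_closure fun _ hx _ hy => C.mates_commute hZ hx hy

theorem Cover.mateGroup_exp (hZ : Subgroup.center G = ⊥) :
    ∀ x ∈ mateGroup D π, x * x = 1 := by
  have := C.mateGroup_comm hZ
  intro x hx
  induction hx using Subgroup.closure_induction with
  | one => exact mul_one 1
  | inv a _ ih => rw [← mul_inv_rev, ih, inv_one]
  | mul a b ha hb iha ihb =>
    have hab : b * a = a * b := congrArg Subtype.val
      (mul_comm (⟨b, hb⟩ : mateGroup D π) ⟨a, ha⟩)
    rw [show a * b * (a * b) = a * (b * a) * b by group, hab,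
      show a * (a * b) * b = (a * a) * (b * b) by group, iha, ihb, one_mul]
  | mem s hs =>
    obtain ⟨d, hd, a, ha, rfl⟩ := hs
    obtain ⟨v, hv⟩ := C.exists_point hd
    exact invol_mul (C.sq hd) (C.sq (C.conj a hd))
      (C.commute hd (C.conj a hd) hv (C.over_conj hv ha) v.2.2)

omit C in
/-- An abelian normal subgroup of exponent two inside the kernel containing the mates. -/
structure Sect (D : Set G) (π : G →* suG B) (W : Subgroup G) : Prop where
  cov : Cover D π
  le : W ≤ π.ker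
  exp : ∀ x ∈ W, x * x = 1
  mates : mateGroup D π = W
  core : pCore 2 G ≤ π.ker

variable {W : Subgroup G} [W.Normal] [IsMulCommutative W] (S : Sect D π W)

open scoped _root_.Classical in
/-- The operator of a vector. -/
noncomputable def A (S : Sect D π W) (x : V) : Additive W →+ Additive W :=
  if h : x ≠ 0 ∧ B x x = 0 then op (rep W) (S.cov.exists_member ⟨x, h⟩).choose else 0

omit C
include S

theorem Sect.rel : Rel (rep W) D := rel_of_class S.exp S.cov.cls

theorem Sect.two (m : Additive W) : m + m = 0 := S.rel.two m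

theorem Sect.two_points : ∃ a ∈ D, ∃ b ∈ D, a ≠ b := by
  have hB := S.cov.sp
  obtain ⟨d, hd, -⟩ := S.cov.cls.2.1
  obtain ⟨v, hv⟩ := S.cov.exists_point hd
  obtain ⟨y, hy⟩ := exists_pair hB v.2.1
  have := hB.fin
  obtain ⟨f, hff, hvf⟩ := Classical.Herm.exists_hyp_partner hB.herm v.2.1 v.2.2
  obtain ⟨e, he, hev⟩ := S.cov.exists_member ⟨f, fun h => by simp [h] at hvf, hff⟩
  exact ⟨d, hd, e, he, fun h => S.cov.not_commute hv hev (by simp [hvf]) (h ▸ Commute.refl e)⟩

/-- Members over the same point differ by an element of the subgroup. -/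
theorem Sect.op_eq {d e : G} (hd : d ∈ D) (he : e ∈ D) {v : Pt B} (hv : π d = tr S.cov.sp v)
    (hw : π e = tr S.cov.sp v) (m : Additive W) : op (rep W) d m = op (rep W) e m := by
  have hmem : e ∈ {x : G | x ∈ D ∧ ∀ z ∈ D, Commute x z ↔ Commute d z} := by
    refine ⟨he, fun z hz => ?_⟩
    obtain ⟨u, hu⟩ := S.cov.exists_point hz
    by_cases h : B v.1 u.1 = 0
    · exact iff_of_true (S.cov.commute he hz hw hu h) (S.cov.commute hd hz hv hu h)
    · exact iff_of_false (S.cov.not_commute hw hu h) (S.cov.not_commute hv hu h)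
  rw [(S5349.result S.cov.cls S.two_points hd).2] at hmem
  obtain ⟨g, hg, rfl⟩ := hmem
  have hx : d * (g * d * g⁻¹) ∈ W := by
    rw [← S.mates]
    exact Subgroup.subset_closure ⟨d, hd, g, S.core hg, rfl⟩
  rw [op_apply, op_apply]
  congr 1
  conv_rhs => rw [show g * d * g⁻¹ = d⁻¹ * (d * (g * d * g⁻¹)) by group]
  rw [S.cov.inv hd, rho_mul_apply (rep W) d (d * (g * d * g⁻¹)), rep_of_mem hx]

theorem Sect.A_member {d : G} (hd : d ∈ D) {v : Pt B} (hv : π d = tr S.cov.sp v) (m : Additive W) :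
    A S v.1 m = op (rep W) d m := by
  rw [A, dif_pos v.2]
  have h := (S.cov.exists_member v).choose_spec
  exact S.op_eq h.1 hd h.2 hv m

theorem Sect.A_bad {x : V} (hx : ¬ (x ≠ 0 ∧ B x x = 0)) (m : Additive W) : A S x m = 0 := by
  rw [A, dif_neg hx]; rfl

theorem Sect.exists_op {x : V} (hx : x ≠ 0) (hxx : B x x = 0) :
    ∃ d ∈ D, π d = tr S.cov.sp ⟨x, hx, hxx⟩ ∧ ∀ m, A S x m = op (rep W) d m := by
  obtain ⟨d, hd, hv⟩ := S.cov.exists_member ⟨x, hx, hxx⟩
  exact ⟨d, hd, hv, fun m => S.A_member hd hv m⟩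

theorem Sect.A_smul {k : F} (hk : k ≠ 0) (x : V) (m : Additive W) : A S (k • x) m = A S x m := by
  have hB := S.cov.sp
  by_cases h : x ≠ 0 ∧ B x x = 0
  · obtain ⟨d, hd, hv, he⟩ := S.exists_op h.1 h.2
    have h' : k • x ≠ 0 ∧ B (k • x) (k • x) = 0 := ⟨smul_ne_zero hk h.1, by simp [h.2]⟩
    rw [he, ← S.A_member hd (v := ⟨k • x, h'⟩) (hv.trans ((tr_eq_iff hB _ _).2 ⟨k, rfl⟩))]
  · rw [S.A_bad h, S.A_bad]
    rintro ⟨h1, h2⟩
    exact h ⟨fun hx => h1 (by rw [hx, smul_zero]), by simpa [hk] using h2⟩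

theorem Sect.A_comm {x y : V} (h : B x y = 0) (m : Additive W) : A S x (A S y m) = 0 := by
  by_cases hx : x ≠ 0 ∧ B x x = 0
  · by_cases hy : y ≠ 0 ∧ B y y = 0
    · obtain ⟨d, hd, hv, he⟩ := S.exists_op hx.1 hx.2
      obtain ⟨e, he', hw, hf⟩ := S.exists_op hy.1 hy.2
      rw [he, hf]
      exact S.rel.comm d hd e he' (S.cov.commute hd he' hv hw h) m
    · rw [S.A_bad hy, map_zero]
  · rw [S.A_bad hx]

theorem Sect.A_sq (x : V) (m : Additive W) : A S x (A S x m) = 0 := by
  by_cases hx : x ≠ 0 ∧ B x x = 0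
  · exact S.A_comm hx.2 m
  · rw [S.A_bad hx]

theorem Sect.A_ncomm {x y : V} (hx : B x x = 0) (hy : B y y = 0) (h : B x y ≠ 0) (m : Additive W) :
    A S x (A S y (A S x m)) = A S x m := by
  obtain ⟨d, hd, hv, he⟩ := S.exists_op (x := x) (fun h0 => h (by simp [h0])) hx
  obtain ⟨e, he', hw, hf⟩ := S.exists_op (x := y) (fun h0 => h (by simp [h0])) hy
  simp only [he, hf]
  exact S.rel.ncomm d hd e he' (S.cov.not_commute hv hw h) m

theorem Sect.A_conj (g : G) (x : V) (m : Additive W) :
    A S ((π g).1 x) (rep W g m) = rep W g (A S x m) := by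
  by_cases hx : x ≠ 0 ∧ B x x = 0
  · obtain ⟨d, hd, hv, he⟩ := S.exists_op hx.1 hx.2
    obtain ⟨u, hu⟩ := exists_image S.cov.sp (π g) ⟨x, hx⟩
    rw [show (π g).1 x = u.1 from hu.symm, S.A_member (S.cov.conj g hd) (S.cov.conj_point g hv hu),
      op_conj, ← rho_mul_apply (rep W) g⁻¹, inv_mul_cancel, rho_one_apply, he]
  · rw [S.A_bad hx, S.A_bad, map_zero]
    rintro ⟨h1, h2⟩
    exact hx ⟨fun h0 => h1 (by rw [h0, map_zero]), by rwa [(π g).2.1] at h2⟩

theorem Sect.A_tmove {v y : V} (hv : B v v = 0) (hv0 : v ≠ 0) (hy : B y y = 0) (hy0 : y ≠ 0)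
    (m : Additive W) :
    A S (y + B v y • v) m = A S v (A S y (A S v m + m)) + A S y (A S v m + m) := by
  have hB := S.cov.sp
  obtain ⟨d, hd, hdv, he⟩ := S.exists_op hv0 hv
  obtain ⟨e, he', hev, hf⟩ := S.exists_op hy0 hy
  obtain ⟨u, hu, hu'⟩ := exists_tmove hB ⟨v, hv0, hv⟩ ⟨y, hy0, hy⟩
  have hmem : d * e * d ∈ D := by
    have := S.cov.conj d he'; rwa [S.cov.inv hd] at this
  rw [show y + B v y • v = u.1 from hu.symm,
    S.A_member hmem (by rw [map_mul, map_mul, hdv, hev, hu']), S.rel.op_inv_conj (S.cov.sq hd)]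
  simp only [he, hf]

/-- An additive map killing all images of the operators is zero. -/
theorem Sect.ext_zero (f : Additive W →+ Additive W)
    (hf : ∀ (x : V) (m : Additive W), f (A S x m) = 0) (m : Additive W) : f m = 0 := by
  have key : ∀ x ∈ mateGroup D π, ∀ hx : x ∈ W, f (Additive.ofMul ⟨x, hx⟩) = 0 := by
    intro x hx
    induction hx using Subgroup.closure_induction with
    | one => intro _; exact map_zero f
    | mul a b ha hb iha ihb =>
      intro hab
      have ha' : a ∈ W := S.mates ▸ ha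
      have hb' : b ∈ W := S.mates ▸ hb
      have e : Additive.ofMul (⟨a * b, hab⟩ : W) =
          Additive.ofMul (⟨a, ha'⟩ : W) + Additive.ofMul (⟨b, hb'⟩ : W) := rfl
      rw [e, map_add, iha ha', ihb hb', add_zero]
    | inv a ha iha =>
      intro h'
      have ha' : a ∈ W := S.mates ▸ ha
      have e : Additive.ofMul (⟨a⁻¹, h'⟩ : W) = -Additive.ofMul (⟨a, ha'⟩ : W) := rfl
      rw [e, map_neg, iha ha', neg_zero]
    | mem s hs =>
      intro hsW
      obtain ⟨d, hd, a, ha, rfl⟩ := hs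
      obtain ⟨v, hv⟩ := S.cov.exists_point hd
      obtain ⟨e, he, hde⟩ := ThreeTrans.exists_not_commute S.cov.cls S.two_points hd
      set w : Additive W := Additive.ofMul ⟨_, hsW⟩
      have hlift : IsLift W D d w := by
        show d * (d * (a * d * a⁻¹)) ∈ D
        rw [← mul_assoc, S.cov.sq hd, one_mul]
        exact S.cov.conj a hd
      rw [S.cov.lift_star S.exp hd he hde hlift, ← S.A_member hd hv]
      exact hf _ _
  obtain ⟨⟨x, hx⟩, rfl⟩ := Additive.ofMul.surjective m
  exact key x (S.mates.symm ▸ hx) hx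

theorem Sect.rep_comm {a : G} (ha : π a = 1) (g : G) (m : Additive W) :
    rep W a (rep W g m) = rep W g (rep W a m) := by
  have hg : g ∈ Subgroup.closure D := S.cov.cls.2.2 ▸ Subgroup.mem_top g
  induction hg using Subgroup.closure_induction generalizing m with
  | one => simp
  | mul x y _ _ hx hy => rw [rho_mul_apply, rho_mul_apply, hx, hy]
  | inv x _ hx =>
    have h := hx (rep W x⁻¹ m)
    rw [rho_inv_apply] at h
    rw [h, ← rho_mul_apply (rep W) x⁻¹ x, inv_mul_cancel, rho_one_apply]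
  | mem d hd =>
    have hx : d * (a * d * a⁻¹) ∈ W := by
      rw [← S.mates]
      exact Subgroup.subset_closure ⟨d, hd, a, ha, rfl⟩
    rw [← rho_mul_apply, ← rho_mul_apply,
      show a * d = d⁻¹ * (d * (a * d * a⁻¹)) * a by group, S.cov.inv hd, rho_mul_apply,
      rho_mul_apply, rep_of_mem hx, ← rho_mul_apply]

/-- The operators of the five points of a totally isotropic line add up to zero. -/
theorem Sect.five {v w : V} (hv : B v v = 0) (hw : B w w = 0) (hvw : B v w = 0) (hw0 : w ≠ 0)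
    (hind : ∀ k : F, v + k • w ≠ 0) (m : Additive W) :
    A S v m + A S w m + A S (v + w) m + A S (v + om S.cov.sp • w) m +
      A S (v + (om S.cov.sp + 1) • w) m = 0 := by
  have hB := S.cov.sp
  have hv0 : v ≠ 0 := by simpa using hind 0
  have hwv := (symm_zero hB).1 hvw
  set L : F → Pt B := fun k => ⟨v + k • w, hind k, by simp [hv, hw, hvw, hwv]⟩ with hL
  obtain ⟨d₁, h₁, e₁⟩ := S.cov.exists_member ⟨v, hv0, hv⟩
  obtain ⟨d₂, h₂, e₂⟩ := S.cov.exists_member ⟨w, hw0, hw⟩
  obtain ⟨d₃, h₃, e₃⟩ := S.cov.exists_member (L 1)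
  obtain ⟨d₄, h₄, e₄⟩ := S.cov.exists_member (L (om hB))
  obtain ⟨d₅, h₅, e₅⟩ := S.cov.exists_member (L (om hB + 1))
  set P := d₁ * d₂ * d₃ * d₄ * d₅ with hP
  have hπP : π P = 1 := by
    rw [hP, map_mul, map_mul, map_mul, map_mul, e₁, e₂, e₃, e₄, e₅]
    exact five_product hB ⟨v, hv0, hv⟩ ⟨w, hw0, hw⟩ hvw L fun k => rfl
  have hs : v + w = (L 1).1 := by simp [hL]
  -- the sum of the operators is `ρ P + 1`
  set f : Additive W →+ Additive W := A S v + A S w + A S (v + w) + A S (v + om hB • w) +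
    A S (v + (om hB + 1) • w) with hf
  have hfP : ∀ n, f n = op (rep W) P n := by
    intro n
    have c : ∀ (k l : F) (x : Additive W), A S (v + k • w) (A S (v + l • w) x) = 0 := fun k l x =>
      S.A_comm (by simp [hv, hw, hvw, hwv]) x
    have c1 : ∀ (l : F) (x : Additive W), A S v (A S (v + l • w) x) = 0 := fun l x =>
      S.A_comm (by simp [hv, hvw]) x
    have c2 : ∀ (l : F) (x : Additive W), A S w (A S (v + l • w) x) = 0 := fun l x =>
      S.A_comm (by simp [hw, hwv]) x
    have r : ∀ (d : G) (x : V) (y : Additive W), (∀ z, A S x z = op (rep W) d z) →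
        rep W d y = A S x y + y := fun d x y h => by rw [h, ← S.rel.rho_eq]
    simp only [hf, AddMonoidHom.add_apply]
    rw [op_apply, hP, rho_mul_apply, rho_mul_apply, rho_mul_apply, rho_mul_apply,
      r d₅ _ _ (S.A_member h₅ e₅), r d₄ _ _ (S.A_member h₄ e₄), r d₃ _ _ (S.A_member h₃ e₃),
      r d₂ _ _ (S.A_member h₂ e₂), r d₁ _ _ (S.A_member h₁ e₁), hs]
    simp only [hL, map_add, c, c1, c2, S.A_comm hvw, zero_add]
    simp only [← add_assoc]
    rw [add_assoc _ n n, S.two, add_zero]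
  -- it kills the image of the first operator, hence of all
  show f m = 0
  have hself : ∀ n, f (A S v n) = 0 := fun n => by
    simp only [hf, AddMonoidHom.add_apply]
    rw [S.A_sq, S.A_comm hwv, S.A_comm (x := v + w) (by simp [hv, hwv]),
      S.A_comm (x := v + om hB • w) (by simp [hv, hwv]),
      S.A_comm (x := v + (om hB + 1) • w) (by simp [hv, hwv])]
    simp
  refine S.ext_zero f (fun x n => ?_) m
  by_cases hx : x ≠ 0 ∧ B x x = 0
  · obtain ⟨d, hd, hdx, he⟩ := S.exists_op hx.1 hx.2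
    obtain ⟨g, hg⟩ := ThreeTrans.class_isConj S.cov.cls h₁ hd
    rw [hfP, he, ← hg, op_conj, op_apply, S.rep_comm hπP, ← map_add, ← op_apply, ← hfP,
      ← S.A_member h₁ e₁ (rep W g⁻¹ n), hself, map_zero]
  · rw [S.A_bad hx, map_zero]

end Cfsg.Agent.TransUnique.UG
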