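import Cfsg.Agent.TransUnique.U.Nu

/-!
# The algebra of the maps through a point

On the image of `A p` all triangle maps lie in a four-dimensional semilinear algebra, so an element
of the kernel acts trivially on the subgroup generated by the mates.
-/

set_option autoImplicit false
set_option linter.unusedSectionVars false

open Cfsg Cfsg.Agent.Classical Cfsg.Agent.Classical.Herm Module
open scoped IsMulCommutative

namespace Cfsg.Agent.TransUnique.UG

variable {F V : Type*} [Field F] [AddCommGroup V] [Module F V] {θ : F →+* F}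
  {B : V →ₛₗ[θ] V →ₗ[F] F}

/-- A point, a partner, a unit vector and an isotropic vector, perpendicular to each other. -/
structure Frm (B : V →ₛₗ[θ] V →ₗ[F] F) (p f m r : V) : Prop where
  pair : Pair B p f
  perp : Perp B p f m
  unit : B m m = 1
  rperp : Perp B p f r
  rne : r ≠ 0
  riso : B r r = 0
  rorth : B m r = 0

theorem exists_frm (hB : USp B) {p f : V} (hP : Pair B p f) : ∃ m r, Frm B p f m r := by
  obtain ⟨m, hm, hmm⟩ := hP.exists_unit hB
  obtain ⟨e, he, hee, hme, hem⟩ := hP.exists_unit_perp hB hm hmm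
  obtain ⟨e', he', hee', h'⟩ := hP.extend hB (k := 2) ![m, e]
    (fun i j => by fin_cases i <;> fin_cases j <;> simp [hmm, hee, hme, hem])
    (fun i => by fin_cases i <;> simp [hm, he]) (by have := hB.five; omega)
  have h0 := h' 0
  have h1 := h' 1
  simp at h0 h1
  refine ⟨m, e + e', hP, hm, hmm, ⟨by simp [he.1, he'.1], by simp [he.2, he'.2]⟩, fun h => ?_, ?_,
    by simp [hme, h0.1]⟩
  · have := congrArg (B e) h
    simp [hee, h1.1] at this
  · simp [hee, hee', h1.1, h1.2]
    exact UG.two hB

theorem exists_partner_pair (hB : USp B) {p : V} (hp : p ≠ 0) (hpp : B p p = 0) :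
    ∃ f, Pair B p f := by
  have := hB.fin
  obtain ⟨f, hff, hpf⟩ := Classical.Herm.exists_hyp_partner hB.herm hp hpp
  exact ⟨f, hpp, hff, hpf⟩

/-- An isotropic vector of the perpendicular with product one with two orthogonal isotropic ones. -/
theorem exists_both (hB : USp B) {p f m r s : V} (hF : Frm B p f m r) (hs : Perp B p f s)
    (hms : B m s = 0) (hrs : B r s = 0) (hind : ∀ k : F, s ≠ k • r) :
    ∃ t, Perp B p f t ∧ B m t = 0 ∧ B t t = 0 ∧ B r t = 1 ∧ B s t = 1 := by
  have hc := charTwo hB
  obtain ⟨hP, hm, hmm, hr, hr0, hrr, hmr⟩ := hF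
  have hrm := (symm_zero hB).1 hmr
  have hsm := (symm_zero hB).1 hms
  have hsr := (symm_zero hB).1 hrs
  obtain ⟨y, hy⟩ := exists_pair hB hr0
  replace hy := symm_one hB hy
  set c := θ (B s y) with hc'
  have hs'0 : s + c • r ≠ 0 := fun h => hind c (by
    rw [← add_zero s, ← vadd_self hB (c • r), ← add_assoc, h, zero_add])
  obtain ⟨y', hy'⟩ := exists_pair hB hs'0
  replace hy' := symm_one hB hy'
  simp [hc', hB.herm.invol] at hy'
  set y'' := y' + B r y' • y with hy''
  have e1 : B r y'' = 0 := by simp [hy'', hy, CharTwo.add_self_eq_zero]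
  have e2 : B s y'' = 1 := by
    simp [hy'']
    linear_combination hy'
  set v := y + (B s y + 1) • y'' with hv
  have f1 : B r v = 1 := by simp [hv, hy, e1]
  have f2 : B s v = 1 := by
    simp [hv, e2]
    grind
  set x := v + B f v • p + B p v • f + B m v • m with hx
  have hxp : Perp B p f x := by
    constructor <;>
      simp [hx, hP.pp, hP.pf, hP.fp hB, hP.ff, hm.1, hm.2, CharTwo.add_self_eq_zero]
  have hxm : B m x = 0 := by
    simp [hx, (hm.left hB).1, (hm.left hB).2, hmm, CharTwo.add_self_eq_zero]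
  have g1 : B r x = 1 := by simp [hx, (hr.left hB).1, (hr.left hB).2, hrm, f1]
  have g2 : B s x = 1 := by simp [hx, (hs.left hB).1, (hs.left hB).2, hsm, f2]
  rcases self_cases hB x with h | h
  · exact ⟨x, hxp, hxm, h, g1, g2⟩
  · refine ⟨x + om hB • r, ?_, by simp [hxm, hmr], ?_, by simp [g1, hrr], by simp [g2, hsr]⟩
    · constructor <;> simp [hxp.1, hxp.2, hr.1, hr.2]
    · simp [h, hrr, g1, symm_one hB g1, om_conj hB]
      grind

variable {G : Type*} [Group G] [Finite G] {D : Set G} {π : G →* suG B}
  {W : Subgroup G} [W.Normal] [IsMulCommutative W] (S : Sect D π W) {p f m r : V}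

include S

theorem Sect.in_add {u v : Additive W} (hu : InA S p u) (hv : InA S p v) : InA S p (u + v) := by
  obtain ⟨a, rfl⟩ := hu
  obtain ⟨b, rfl⟩ := hv
  exact ⟨a + b, map_add _ _ _⟩

theorem Sect.in_zero : InA S p 0 := ⟨0, map_zero _⟩

theorem Sect.in_kap {u : Additive W} : InA S p (kap S p f m u) := S.in_nu _ _ _ u

theorem Sect.kap_zero : kap S p f m 0 = 0 := by simp only [kap, nuA, map_zero]

theorem Sect.kap_nsmul (a : ℕ) (u : Additive W) : kap S p f m (a • u) = a • kap S p f m u := by
  simp only [kap, nuA, map_nsmul]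

/-- The nilpotent generator. -/
noncomputable def nil (S : Sect D π W) (p f m r : V) (u : Additive W) : Additive W :=
  kap S p f (m + r) u + kap S p f m u

theorem Sect.in_nil {u : Additive W} : InA S p (nil S p f m r u) := S.in_add S.in_kap S.in_kap

theorem Sect.nil_add (u v : Additive W) :
    nil S p f m r (u + v) = nil S p f m r u + nil S p f m r v := by
  simp only [nil, S.kap_add]; abel

theorem Sect.nil_nsmul (a : ℕ) (u : Additive W) : nil S p f m r (a • u) = a • nil S p f m r u := by
  simp only [nil, S.kap_nsmul, nsmul_add]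

variable (hF : Frm B p f m r)
include hF

theorem Sect.frm_shift (k : F) : Perp B p f (m + k • r) ∧ B (m + k • r) (m + k • r) = 1 :=
  ⟨⟨by simp [hF.perp.1, hF.rperp.1], by simp [hF.perp.2, hF.rperp.2]⟩, by
    simp [hF.unit, hF.riso, hF.rorth, (symm_zero S.cov.sp).1 hF.rorth]⟩

theorem Sect.J_sq {u : Additive W} (hu : InA S p u) :
    kap S p f m (kap S p f m u) = kap S p f m u + u := by
  apply S.rel.eq_of_add
  rw [← add_assoc]
  exact S.kap_quad hF.pair hF.perp hF.unit hu

/-- The values on the line through `r`, and the relations of the generators. -/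
theorem Sect.relations {u : Additive W} (hu : InA S p u) :
    kap S p f (m + (om S.cov.sp + 1) • r) u =
        kap S p f m (nil S p f m r u) + nil S p f m r u + kap S p f m u ∧
      kap S p f (m + om S.cov.sp • r) u = kap S p f m (nil S p f m r u) + kap S p f m u ∧
      nil S p f m r (kap S p f m u) = kap S p f m (nil S p f m r u) + nil S p f m r u ∧
      nil S p f m r (nil S p f m r u) = 0 := by
  have hB := S.cov.sp
  have hc := charTwo hB
  have hP := hF.pair
  have hm := hF.perp
  have hmm := hF.unit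
  obtain ⟨hn, hnn⟩ := S.frm_shift hF 1
  rw [one_smul] at hn hnn
  have hmn : B m (m + r) = 1 := by simp [hmm, hF.rorth]
  set J := fun x => kap S p f m x with hJ
  set K := fun x => kap S p f (m + r) x with hK
  have hne : om hB + 1 ≠ 0 := om_ne_one hB
  -- the two products
  have e1 : kap S p f (m + (om hB + 1) • r) u = J (K u + u) + (K u + u) := by
    have h := S.kap_mul hP hm hmm hn hnn hmn hu
    rw [show m + om hB • (m + r) = (om hB + 1) • (m + (om hB + 1) • r) by
      match_scalars
      all_goals grind [om_sq hB]] at h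
    rwa [S.kap_smul hP (S.frm_shift hF _).1 (S.frm_shift hF _).2 hne hu] at h
  have e2 : kap S p f (m + om hB • r) u = K (J u + u) + (J u + u) := by
    have h := S.kap_mul hP hn hnn hm hmm (symm_one hB hmn) hu
    rw [show m + r + om hB • m = (om hB + 1) • (m + om hB • r) by
      match_scalars
      all_goals grind [om_sq hB]] at h
    rwa [S.kap_smul hP (S.frm_shift hF _).1 (S.frm_shift hF _).2 hne hu] at h
  have e0 := S.kap_sum hP hm hmm hF.rperp hF.rne hF.riso hF.rorth u hu
  rw [e1, e2] at e0
  simp only [hJ, hK, S.kap_add] at e0 e1 e2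
  have hJJ := S.J_sq hF hu
  have hK2 : K (K u) = K u + u := by
    apply S.rel.eq_of_add
    rw [← add_assoc]
    exact S.kap_quad hP hn hnn hu
  have t2 : ∀ x : Additive W, (2 : ℤ) • x = 0 := fun x => by rw [two_zsmul, S.two]
  have t3 : ∀ x : Additive W, (3 : ℤ) • x = x := fun x => by
    rw [show (3 : ℤ) = 2 + 1 from rfl, add_zsmul, t2, one_zsmul, zero_add]
  have t4 : ∀ x : Additive W, (4 : ℤ) • x = 0 := fun x => by
    rw [show (4 : ℤ) = 2 + 2 from rfl, add_zsmul, t2, zero_add]
  -- `KJ + JK = J + K`
  have key : K (J u) + J (K u) = J u + K u := by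
    apply S.rel.eq_of_add
    simp only [hJ, hK]
    rw [← e0]
    abel_nf
    simp [t2, t3, t4]
  simp only [hJ, hK] at key hK2
  have k1 : kap S p f (m + r) (kap S p f m u) =
      kap S p f m u + kap S p f (m + r) u + kap S p f m (kap S p f (m + r) u) := by
    rw [← key, add_assoc, S.two, add_zero]
  refine ⟨?_, ?_, ?_, ?_⟩
  · rw [e1]; simp only [nil, S.kap_add, hJJ]
    abel_nf; simp [t2, t3, t4]
  · rw [e2]; simp only [nil, S.kap_add, hJJ, k1]
    abel_nf; simp [t2, t3, t4]
  · simp only [nil, S.kap_add, hJJ, k1]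
    abel_nf
  · simp only [nil, S.kap_add, hJJ, k1, hK2]
    abel_nf; simp [t2, t3, t4]

omit hF in
/-- The algebra generated by the two generators. -/
def InAlg (S : Sect D π W) (p f m r : V) (φ : Additive W → Additive W) : Prop :=
  ∃ a b c d : ℕ, ∀ u, InA S p u → φ u = a • u + b • kap S p f m u + c • nil S p f m r u +
    d • kap S p f m (nil S p f m r u)

omit hF in
theorem Sect.alg_congr {φ ψ : Additive W → Additive W} (h : InAlg S p f m r φ)
    (he : ∀ u, InA S p u → ψ u = φ u) : InAlg S p f m r ψ := by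
  obtain ⟨a, b, c, d, h⟩ := h
  exact ⟨a, b, c, d, fun u hu => (he u hu).trans (h u hu)⟩

omit hF in
theorem Sect.alg_zero : InAlg S p f m r fun _ => 0 := ⟨0, 0, 0, 0, fun u _ => by simp⟩

omit hF in
theorem Sect.alg_id : InAlg S p f m r fun u => u := ⟨1, 0, 0, 0, fun u _ => by simp⟩

omit hF in
theorem Sect.alg_J : InAlg S p f m r (kap S p f m) := ⟨0, 1, 0, 0, fun u _ => by simp⟩

omit hF in
theorem Sect.alg_nil : InAlg S p f m r (nil S p f m r) := ⟨0, 0, 1, 0, fun u _ => by simp⟩

omit hF in
theorem Sect.alg_add {φ ψ : Additive W → Additive W} (h : InAlg S p f m r φ)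
    (h' : InAlg S p f m r ψ) : InAlg S p f m r fun u => φ u + ψ u := by
  obtain ⟨a, b, c, d, h⟩ := h
  obtain ⟨a', b', c', d', h'⟩ := h'
  refine ⟨a + a', b + b', c + c', d + d', fun u hu => ?_⟩
  show φ u + ψ u = _
  rw [h u hu, h' u hu, add_nsmul, add_nsmul, add_nsmul, add_nsmul]
  abel

omit hF in
theorem Sect.alg_nsmul {φ : Additive W → Additive W} (h : InAlg S p f m r φ) (k : ℕ) :
    InAlg S p f m r fun u => k • φ u := by
  obtain ⟨a, b, c, d, h⟩ := h
  refine ⟨k * a, k * b, k * c, k * d, fun u hu => ?_⟩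
  show k • φ u = _
  rw [h u hu]
  simp only [nsmul_add, ← mul_nsmul']

theorem Sect.alg_post_J {φ : Additive W → Additive W} (h : InAlg S p f m r φ) :
    InAlg S p f m r fun u => kap S p f m (φ u) := by
  obtain ⟨a, b, c, d, h⟩ := h
  refine ⟨b, a + b, d, c + d, fun u hu => ?_⟩
  show kap S p f m (φ u) = _
  rw [h u hu]
  simp only [S.kap_add, S.kap_nsmul, S.J_sq hF hu, S.J_sq hF S.in_nil, nsmul_add, add_nsmul]
  abel

theorem Sect.alg_post_nil {φ : Additive W → Additive W} (h : InAlg S p f m r φ) :
    InAlg S p f m r fun u => nil S p f m r (φ u) := by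
  obtain ⟨a, b, c, d, h⟩ := h
  refine ⟨0, 0, a + b, b, fun u hu => ?_⟩
  show nil S p f m r (φ u) = _
  obtain ⟨-, -, h3, h4⟩ := S.relations hF hu
  obtain ⟨-, -, h5, -⟩ := S.relations hF (u := nil S p f m r u) S.in_nil
  rw [h u hu]
  simp only [S.nil_add, S.nil_nsmul, h3, h4, h5, S.kap_zero, nsmul_add, add_nsmul, nsmul_zero,
    zero_nsmul, add_zero, zero_add]
  abel

theorem Sect.alg_comp {φ ψ : Additive W → Additive W} (h : InAlg S p f m r φ)
    (h' : InAlg S p f m r ψ) (hψ : ∀ u, InA S p u → InA S p (ψ u)) :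
    InAlg S p f m r fun u => φ (ψ u) := by
  obtain ⟨a, b, c, d, h⟩ := h
  exact S.alg_congr (S.alg_add (S.alg_add (S.alg_add (S.alg_nsmul h' a)
    (S.alg_nsmul (S.alg_post_J hF h') b)) (S.alg_nsmul (S.alg_post_nil hF h') c))
    (S.alg_nsmul (S.alg_post_J hF (S.alg_post_nil hF h')) d)) fun u hu => h _ (hψ u hu)

/-- Every unit vector gives an element of the algebra. -/
theorem Sect.kap_alg {n : V} (hn : Perp B p f n) (hnn : B n n = 1) :
    InAlg S p f m r (kap S p f n) := by
  have hB := S.cov.sp
  have hc := charTwo hB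
  have hP := hF.pair
  have hm := hF.perp
  have hmm := hF.unit
  -- vectors `m + s` with `s` isotropic perpendicular
  have line : ∀ k : F, InAlg S p f m r (kap S p f (m + k • r)) := by
    intro k
    rcases field_cases hB k with rfl | rfl | rfl | rfl
    · rw [zero_smul, add_zero]; exact S.alg_J
    · rw [one_smul]
      refine S.alg_congr (S.alg_add S.alg_nil S.alg_J) fun u _ => ?_
      show _ = nil S p f m r u + kap S p f m u
      rw [nil, add_assoc, S.two, add_zero]
    · exact S.alg_congr (S.alg_add (S.alg_post_J hF S.alg_nil) S.alg_J)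
        fun u hu => (S.relations hF hu).2.1
    · exact S.alg_congr (S.alg_add (S.alg_add (S.alg_post_J hF S.alg_nil) S.alg_nil) S.alg_J)
        fun u hu => (S.relations hF hu).1
  have orth : ∀ s t : V, Perp B p f s → B m s = 0 → B s s = 0 → Perp B p f t → B m t = 0 →
      B t t = 0 → B t s = 1 → ∀ u, InA S p u → kap S p f (m + s) u = kap S p f (m + t) u := by
    intro s t hs hms hss ht hmt htt hts u hu
    refine S.kap_orth hP ⟨by simp [hm.1, hs.1], by simp [hm.2, hs.2]⟩
      (by simp [hmm, hms, hss, (symm_zero hB).1 hms]) ⟨by simp [hm.1, ht.1], by simp [hm.2, ht.2]⟩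
      (by simp [hmm, hmt, htt, (symm_zero hB).1 hmt]) ?_ hu
    simp [hmm, hmt, (symm_zero hB).1 hms, symm_one hB hts]
    exact UG.two hB
  have scaled : ∀ (s : V) (a : V), Perp B p f a → B m a = 0 → B a a = 0 → B a s ≠ 0 →
      Perp B p f s → B m s = 0 → B s s = 0 →
      ∃ k : F, k ≠ 0 ∧ ∀ u, InA S p u → kap S p f (m + s) u = kap S p f (m + k • a) u := by
    intro s a ha hma haa has hs hms hss
    refine ⟨θ (B a s)⁻¹, (map_ne_zero θ).2 (inv_ne_zero has),
      fun u hu => orth s _ hs hms hss ⟨by simp [ha.1], by simp [ha.2]⟩ (by simp [hma])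
        (by simp [haa]) ?_ u hu⟩
    simp [hB.herm.invol, has]
  have all : ∀ s : V, Perp B p f s → B m s = 0 → B s s = 0 →
      InAlg S p f m r (kap S p f (m + s)) := by
    intro s hs hms hss
    by_cases hex : ∃ k : F, s = k • r
    · obtain ⟨k, rfl⟩ := hex
      exact line k
    push Not at hex
    by_cases hrs : B r s = 0
    · obtain ⟨t, ht, hmt, htt, hrt, hst⟩ := exists_both hB hF hs hms hrs hex
      obtain ⟨k, hk, e⟩ := scaled s t ht hmt htt (by rw [symm_one hB hst]; exact one_ne_zero) hs hms hss
      obtain ⟨k', -, e'⟩ := scaled (k • t) r hF.rperp hF.rorth hF.riso (by simp [hrt, hk])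
        ⟨by simp [ht.1], by simp [ht.2]⟩ (by simp [hmt]) (by simp [htt])
      exact S.alg_congr (line k') fun u hu => (e u hu).trans (e' u hu)
    · obtain ⟨k, -, e⟩ := scaled s r hF.rperp hF.rorth hF.riso hrs hs hms hss
      exact S.alg_congr (line k) e
  by_cases h0 : B m n = 0
  · exact S.alg_congr S.alg_J fun u hu => (S.kap_orth hP hm hmm hn hnn h0 hu).symm
  set k := (B m n)⁻¹ with hk
  have hk0 : k ≠ 0 := inv_ne_zero h0
  have hkn : Perp B p f (k • n) := ⟨by simp [hn.1], by simp [hn.2]⟩
  have hknn : B (k • n) (k • n) = 1 := by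
    simp [hnn]
    first | exact norm_one hB hk0 | (rw [mul_comm]; exact norm_one hB hk0)
  have hmkn : B m (k • n) = 1 := by simp [hk, h0]
  have hs := all (k • n + m) ⟨by simp [hkn.1, hm.1], by simp [hkn.2, hm.2]⟩
    (by rw [map_add, hmkn, hmm, UG.two hB])
    (by simp only [map_add, LinearMap.add_apply, hknn, hmkn, hmm, symm_one hB hmkn]; grind)
  refine S.alg_congr hs fun u hu => ?_
  rw [add_comm (k • n) m, ← add_assoc, vadd_self hB, zero_add, S.kap_smul hP hn hnn hk0 hu]

/-- All triangle maps lie in the algebra. -/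
theorem Sect.nu_alg {y z : V} (hy : B y y = 0) (hz : B z z = 0) (hpy : B p y ≠ 0)
    (hpz : B p z ≠ 0) : InAlg S p f m r (nuA S p y z) := by
  have hB := S.cov.sp
  have hc := charTwo hB
  have hP := hF.pair
  have key : ∀ y z, B y y = 0 → B z z = 0 → B p y = 1 → B p z = 1 →
      InAlg S p f m r (nuA S p y z) := by
    clear hy hz hpy hpz y z
    intro y z hy hz hpy hpz
    set w := y + f + B f y • p with hw
    have hwp : Perp B p f w := by
      constructor <;> simp [hw, hpy, hP.pf, hP.pp, hP.ff, hP.fp hB, CharTwo.add_self_eq_zero]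
    have ey : y = f + B f y • p + w := by
      rw [hw, show f + B f y • p + (y + f + B f y • p) = y + (f + f) + (B f y • p + B f y • p) by abel,
        vadd_self hB, vadd_self hB, add_zero, add_zero]
    obtain ⟨h, hhy, hp', hfix, -⟩ := S.exists_moves hP (α := B f y) hwp (by rw [← ey]; exact hy)
    rw [← ey] at hhy
    set z' := (π h).1 z with hz'
    have hz'' : B z' z' = 0 := by rw [hz', (π h).2.1]; exact hz
    have hpz' : B p z' = 1 := by rw [hz', ← hp', (π h).2.1, hpz]
    refine S.alg_congr (φ := nuA S p f z') ?_ fun u hu => by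
      rw [← S.nu_move hp' hfix y z hu, hhy]
    set β := B f z' with hβ
    set n := z' + f + β • p with hn
    have hnp : Perp B p f n := by
      constructor <;> simp [hn, hpz', hP.pf, hP.pp, hP.ff, hP.fp hB, ← hβ, CharTwo.add_self_eq_zero]
    have ez : z' = f + β • p + n := by
      rw [hn, show f + β • p + (z' + f + β • p) = z' + (f + f) + (β • p + β • p) by abel,
        vadd_self hB, vadd_self hB, add_zero, add_zero]
    have hf1 : B p f ≠ 0 := by rw [hP.pf]; exact one_ne_zero
    have hnn : β + θ β + B n n = 0 := by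
      rw [ez] at hz''
      simp [hP.pp, hP.ff, hP.pf, hP.fp hB, hnp.1, hnp.2, (hnp.left hB).1, (hnp.left hB).2] at hz''
      grind
    rcases field_cases hB β with hb | hb | hb | hb
    · refine S.alg_congr S.alg_zero fun u _ => ?_
      rw [nuA, S.A_comm (x := f) (y := z') (by rw [← hβ, hb]), map_zero]
    · rw [hb, map_one, UG.two hB, zero_add] at hnn
      rw [hb, one_smul, add_right_comm] at ez
      refine S.alg_congr S.alg_id fun u hu => ?_
      have hi : B (f + n) (f + n) = 0 := by simp [hP.ff, hnp.2, (hnp.left hB).2, hnn]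
      rw [ez, S.nu_flip hP hi hf1 hP.ff (by simp [hP.pf, hnp.1]) hu, nuA,
        S.A_comm (x := f) (y := f + n) (by simp [hP.ff, hnp.2]), map_zero, zero_add]
    · have h1 : B n n = 1 := by rw [hb, om_conj hB] at hnn; grind
      rw [hb] at ez
      exact S.alg_congr (S.kap_alg hF hnp h1) fun u _ => by rw [ez]; rfl
    · have h1 : B n n = 1 := by rw [hb, map_add, map_one, om_conj hB] at hnn; grind
      rw [hb, add_smul, one_smul] at ez
      refine S.alg_congr (S.alg_add (S.kap_alg hF hnp h1) S.alg_id) fun u hu => ?_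
      rw [ez, show f + (om hB • p + p) + n = f + om hB • p + n + p by abel,
        S.nu_flip hP (S.kap_iso hP hnp h1) hf1 hP.ff (by simp [hP.pf, hP.pp, hnp.1]) hu]
      rfl
  have hy' : ∀ k : F, k ≠ 0 → ∀ x : V, B x x = 0 → B (k • x) (k • x) = 0 := fun k _ x hx => by
    simp [hx]
  refine S.alg_congr (key ((B p y)⁻¹ • y) ((B p z)⁻¹ • z) (hy' _ (inv_ne_zero hpy) _ hy)
    (hy' _ (inv_ne_zero hpz) _ hz) (by simp [hpy]) (by simp [hpz])) fun u _ => ?_
  rw [nuA, nuA, S.A_smul (inv_ne_zero hpz), S.A_smul (inv_ne_zero hpy)]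

/-- The maps of the image of `A p` spanned by operators after elements of the algebra. -/
inductive Span (S : Sect D π W) (p f m r : V) : (Additive W → Additive W) → Prop
  | zero : Span S p f m r fun _ => 0
  | gen {y : V} {φ : Additive W → Additive W} (hy : B y y = 0) (hpy : B p y ≠ 0)
      (hφ : InAlg S p f m r φ) (hin : ∀ u, InA S p u → InA S p (φ u)) :
      Span S p f m r fun u => A S y (φ u)
  | add {ψ ψ' : Additive W → Additive W} : Span S p f m r ψ → Span S p f m r ψ' →
      Span S p f m r fun u => ψ u + ψ' u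
  | congr {ψ ψ' : Additive W → Additive W} : Span S p f m r ψ →
      (∀ u, InA S p u → ψ' u = ψ u) → Span S p f m r ψ'

theorem Sect.span_op {ψ : Additive W → Additive W} (h : Span S p f m r ψ) (z : V) :
    Span S p f m r fun u => A S z (ψ u) := by
  have hB := S.cov.sp
  have hP := hF.pair
  induction h with
  | zero => exact Span.congr Span.zero fun u _ => map_zero _
  | add _ _ ih ih' => exact Span.congr (Span.add ih ih') fun u _ => map_add _ _ _
  | congr _ he ih => exact Span.congr ih fun u hu => by show A S z _ = A S z _; rw [he u hu]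
  | @gen y φ hy hpy hφ hin =>
    by_cases hzy : B z y = 0
    · exact Span.congr Span.zero fun u _ => S.A_comm hzy _
    by_cases hz : z ≠ 0 ∧ B z z = 0
    · by_cases hpz : B p z = 0
      · obtain ⟨hz0, hzz⟩ := hz
        have hy0 : y ≠ 0 := fun h => hpy (by rw [h, map_zero])
        set t := y + B z y • z with ht
        have hyz : B y z = θ (B z y) := (hB.herm.symm _ _).symm
        refine Span.congr (Span.add (Span.gen (y := t) ?_ (by simp [ht, hpz, hpy]) hφ hin)
          (Span.gen hy hpy hφ hin)) fun u hu => ?_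
        · simp [ht, hy, hzz, hyz]
          have := charTwo hB
          grind
        · show A S z (A S y (φ u)) = A S t (φ u) + A S y (φ u)
          rw [ht, S.A_tmove hzz hz0 hy hy0, S.in_kill hpz (hin u hu), zero_add, add_assoc, S.two,
            add_zero]
      · refine Span.congr (Span.gen hz.2 hpz
          (S.alg_comp hF (S.nu_alg hF hz.2 hy hpz hpy) hφ hin) fun u _ => S.in_nu _ _ _ _)
          fun u _ => ?_
        show A S z (A S y (φ u)) = A S z (A S p (A S z (A S y (φ u))))
        rw [S.A_ncomm hz.2 hP.pp (fun h => hpz ((symm_zero hB).1 h))]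
    · exact Span.congr Span.zero fun u _ => S.A_bad hz _

theorem Sect.span_rep {ψ : Additive W → Additive W} (h : Span S p f m r ψ) (g : G) :
    Span S p f m r fun u => rep W g (ψ u) := by
  have hg : g ∈ Submonoid.closure D := by
    rw [← Subgroup.closure_toSubmonoid_of_finite, S.cov.cls.2.2]; trivial
  induction hg using Submonoid.closure_induction generalizing ψ with
  | one => exact Span.congr h fun u _ => rho_one_apply _ _
  | mem d hd =>
    obtain ⟨v, hv⟩ := S.cov.exists_point hd
    exact Span.congr (Span.add (S.span_op hF h v.1) h) fun u _ => S.rho_member hd hv _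
  | mul x y _ _ hx hy => exact Span.congr (hx (hy h)) fun u _ => rho_mul_apply _ _ _ _

theorem Sect.span_close {ψ : Additive W → Additive W} (h : Span S p f m r ψ) :
    InAlg S p f m r fun u => A S p (ψ u) := by
  induction h with
  | zero => exact S.alg_congr S.alg_zero fun u _ => map_zero _
  | add _ _ ih ih' => exact S.alg_congr (S.alg_add ih ih') fun u _ => map_add _ _ _
  | congr _ he ih => exact S.alg_congr ih fun u hu => by show A S p _ = A S p _; rw [he u hu]
  | @gen y φ hy hpy hφ hin =>
    exact S.alg_congr hφ fun u hu => S.in_fix hF.pair.pp hy hpy (hin u hu)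

end Cfsg.Agent.TransUnique.UG
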