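import Cfsg.Agent.ThreeTrans.UnitaryClass

/-!
# Unitary spaces over the field of four elements of dimension at least five

Points, their transvections, frames around a hyperbolic pair.
-/

set_option autoImplicit false
set_option linter.unusedSectionVars false

open Cfsg Cfsg.Agent.Classical Cfsg.Agent.Classical.Herm Module
open Cfsg.Agent.ThreeTrans (exists_conj_order_four)

namespace Cfsg.Agent.TransUnique.UG

variable {F V : Type*} [Field F] [AddCommGroup V] [Module F V] {θ : F →+* F}
  {B : V →ₛₗ[θ] V →ₗ[F] F}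

/-- The standing hypotheses. -/
structure USp (B : V →ₛₗ[θ] V →ₗ[F] F) : Prop where
  herm : IsHerm B
  fin : FiniteDimensional F V
  finF : Finite F
  five : 5 ≤ finrank F V
  fixed : ∀ a : F, θ a = a → a = 0 ∨ a = 1

/-- Nonzero isotropic vectors. -/
abbrev Pt (B : V →ₛₗ[θ] V →ₗ[F] F) : Type _ := {v : V // v ≠ 0 ∧ B v v = 0}

variable (hB : USp B) {x y : V}

include hB

theorem two : (1 : F) + 1 = 0 := by
  rcases hB.fixed (1 + 1) (by rw [map_add, map_one]) with h | h
  · exact h
  · exact absurd h (by simp)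

theorem add_self' (k : F) : k + k = 0 := by
  rw [← mul_one k, ← mul_add, two hB, mul_zero]

theorem vadd_self (v : V) : v + v = 0 := by
  rw [← one_smul F v, ← add_smul, two hB, zero_smul]

theorem norm_one {k : F} (hk : k ≠ 0) : k * θ k = 1 := by
  rcases hB.fixed (k * θ k) (by rw [map_mul, hB.herm.invol, mul_comm]) with h | h
  · exact absurd h (mul_ne_zero hk ((map_ne_zero θ).2 hk))
  · exact h

theorem self_cases (v : V) : B v v = 0 ∨ B v v = 1 := hB.fixed _ (Herm.fix_self hB.herm v)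

theorem symm_zero : B x y = 0 ↔ B y x = 0 := Herm.eq_zero_comm hB.herm

theorem symm_one (h : B x y = 1) : B y x = 1 := by rw [← hB.herm.symm, h, map_one]

theorem exists_pair {v : V} (hv : v ≠ 0) : ∃ y, B y v = 1 := by
  obtain ⟨y, hy⟩ : ∃ y, B v y ≠ 0 := by
    by_contra hc
    push Not at hc
    exact hv (hB.herm.nondeg v hc)
  exact ⟨(B v y)⁻¹ • y, symm_one hB (by rw [map_smul, smul_eq_mul, inv_mul_cancel₀ hy])⟩

/-- A primitive cube root of unity. -/
theorem exists_omega : ∃ w : F, w * w = w + 1 ∧ θ w = w + 1 := by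
  obtain ⟨b, hb⟩ := Herm.exists_moved hB.herm.toIsInvol
  have h2 := add_self' hB
  have h1 : θ b + b = 1 := by
    rcases hB.fixed (θ b + b) (by rw [map_add, hB.herm.invol, add_comm]) with h | h
    · exact absurd (eq_neg_of_add_eq_zero_left h) (by
        intro hh; exact hb (by rw [hh, neg_eq_iff_add_eq_zero, h2]))
    · exact h
  have h3 : θ b = b + 1 := by linear_combination h1 - h2 b
  have hb0 : b ≠ 0 := fun h => hb (by rw [h, map_zero])
  have h4 := norm_one hB hb0
  rw [h3] at h4
  exact ⟨b, by linear_combination h4 - h2 b, h3⟩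

theorem charTwo : CharP F 2 :=
  CharTwo.of_one_ne_zero_of_two_eq_zero one_ne_zero (by rw [← one_add_one_eq_two]; exact two hB)

/-- A chosen primitive cube root of unity. -/
noncomputable def om : F := (exists_omega hB).choose

local notation "ω" => om hB

theorem om_sq : ω * ω = ω + 1 := (exists_omega hB).choose_spec.1

theorem om_conj : θ ω = ω + 1 := (exists_omega hB).choose_spec.2

theorem om_ne : ω ≠ 0 := fun h => by
  have := om_sq hB
  rw [h, mul_zero, zero_add] at this
  exact zero_ne_one this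

theorem om_ne_one : ω + 1 ≠ 0 := by rw [← om_sq hB]; exact mul_ne_zero (om_ne hB) (om_ne hB)

theorem field_cases (k : F) : k = 0 ∨ k = 1 ∨ k = ω ∨ k = ω + 1 := by
  have h2 := add_self' hB
  by_cases hk : θ k = k
  · rcases hB.fixed k hk with h | h <;> simp [h]
  · have hk0 : k ≠ 0 := fun h => hk (by rw [h, map_zero])
    have h4 := norm_one hB hk0
    have h1 : θ k + k = 1 := by
      rcases hB.fixed (θ k + k) (by rw [map_add, hB.herm.invol, add_comm]) with h | h
      · exact absurd (by linear_combination h - h2 k) hk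
      · exact h
    have h5 : (k + ω) * (k + (ω + 1)) = 0 := by
      linear_combination om_sq hB + k * h1 - h4 + h2 ω + h2 (k * ω) + h2 k
    rcases mul_eq_zero.1 h5 with h | h
    · exact Or.inr (Or.inr (Or.inl (by linear_combination h - h2 ω)))
    · exact Or.inr (Or.inr (Or.inr (by linear_combination h - h2 (ω + 1))))

theorem tvU_mem' (v : Pt B) : tvU (B := B) v.2.2 1 ∈ suG B := by
  have := hB.fin; have := hB.finF
  exact tvU_mem hB.herm v.2.2 (by rw [map_one, two hB])

/-- The transvection of a point. -/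
noncomputable def tr (v : Pt B) : suG B := ⟨tvU (B := B) v.2.2 1, tvU_mem' hB v⟩

theorem tr_apply (v : Pt B) (x : V) : (tr hB v).1 x = x + B v.1 x • v.1 := by
  show tvU (B := B) v.2.2 1 x = _
  rw [tvU_apply, one_mul]

theorem ext_suG {g g' : suG B} (h : ∀ x, g.1 x = g'.1 x) : g = g' := Subtype.ext (LinearEquiv.ext h)

theorem tr_sq (v : Pt B) : tr hB v * tr hB v = 1 := ext_suG hB fun x => by
  show (tr hB v).1 ((tr hB v).1 x) = x
  rw [tr_apply, tr_apply]
  simp [v.2.2, add_assoc, vadd_self hB]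

/-- Where an isometry takes a point. -/
theorem exists_image (g : suG B) (v : Pt B) : ∃ u : Pt B, u.1 = g.1 v.1 :=
  ⟨⟨g.1 v.1, fun h => v.2.1 (by simpa using h), by rw [g.2.1]; exact v.2.2⟩, rfl⟩

theorem tr_conj (g : suG B) {v u : Pt B} (hu : u.1 = g.1 v.1) : g * tr hB v * g⁻¹ = tr hB u :=
  ext_suG hB fun x => by
    show g.1 ((tr hB v).1 (g.1⁻¹ x)) = (tr hB u).1 x
    have hx : g.1 (g.1⁻¹ x) = x := g.1.apply_symm_apply x
    rw [tr_apply, tr_apply, map_add, map_smul, hu, hx]
    congr 2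
    conv_rhs => rw [← hx, g.2.1]

theorem tr_eq_iff (v w : Pt B) : tr hB v = tr hB w ↔ ∃ k : F, w.1 = k • v.1 := by
  constructor
  · intro h
    obtain ⟨y, hy⟩ := exists_pair hB w.2.1
    have h1 := congrArg (fun g : suG B => g.1 y) h
    simp only [tr_apply, add_right_inj] at h1
    rw [symm_one hB hy, one_smul] at h1
    exact ⟨B v.1 y, h1.symm⟩
  · rintro ⟨k, hk⟩
    refine ext_suG hB fun x => ?_
    rw [tr_apply, tr_apply, hk]
    have hk0 : k ≠ 0 := fun h => w.2.1 (by rw [hk, h, zero_smul])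
    simp [smul_smul]
    rw [show θ k * B v.1 x * k = B v.1 x * (k * θ k) by ring, norm_one hB hk0, mul_one]

theorem commute_of_fix (g : suG B) (v : Pt B) (h : g.1 v.1 = v.1) : Commute g (tr hB v) := by
  have h1 := tr_conj hB g (v := v) (u := v) h.symm
  rwa [mul_inv_eq_iff_eq_mul] at h1

theorem exists_tmove (v w : Pt B) : ∃ u : Pt B, u.1 = w.1 + B v.1 w.1 • v.1 ∧
    tr hB v * tr hB w * tr hB v = tr hB u := by
  obtain ⟨u, hu⟩ := exists_image hB (tr hB v) w
  refine ⟨u, by rw [hu, tr_apply], ?_⟩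
  have := tr_conj hB (tr hB v) hu
  rwa [inv_eq_of_mul_eq_one_left (tr_sq hB v)] at this

theorem tr_commute_iff (v w : Pt B) : Commute (tr hB v) (tr hB w) ↔ B v.1 w.1 = 0 := by
  constructor
  · intro h
    obtain ⟨u, hu, hu'⟩ := exists_tmove hB v w
    rw [h.eq, mul_assoc, tr_sq hB v, mul_one, tr_eq_iff] at hu'
    obtain ⟨k, hk⟩ := hu'
    rw [hu] at hk
    by_contra hne
    have h1 := congrArg (B v.1) hk
    simp [v.2.2] at h1
    have hk1 : k = 1 := mul_right_cancel₀ hne (h1.symm.trans (one_mul _).symm)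
    rw [hk1, one_smul] at hk
    exact (smul_ne_zero hne v.2.1) (add_eq_left.1 hk)
  · intro h
    exact commute_of_fix hB _ w (by rw [tr_apply, h, zero_smul, add_zero])

theorem tr_braid {v w : Pt B} (h : B v.1 w.1 ≠ 0) :
    tr hB v * tr hB w * tr hB v = tr hB w * tr hB v * tr hB w := by
  obtain ⟨u, hu, hu'⟩ := exists_tmove hB v w
  obtain ⟨u', hu1, hu1'⟩ := exists_tmove hB w v
  rw [hu', hu1', tr_eq_iff]
  refine ⟨(B v.1 w.1)⁻¹, ?_⟩
  have h2 : B w.1 v.1 = θ (B v.1 w.1) := (hB.herm.symm _ _).symm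
  have h3 : θ (B v.1 w.1) = (B v.1 w.1)⁻¹ := eq_inv_of_mul_eq_one_right (norm_one hB h)
  rw [hu1, hu, h2, h3, smul_add, smul_smul, inv_mul_cancel₀ h, one_smul, add_comm]

/-- All transvections. -/
def trSet : Set (suG B) := Set.range (tr hB)

theorem trSet_tri : IsThreeTranspositionSet (trSet hB) := by
  refine ⟨?_, ?_⟩
  · rintro - ⟨v, rfl⟩
    refine orderOf_eq_prime (by rw [sq, tr_sq]) fun h => ?_
    obtain ⟨y, hy⟩ := exists_pair hB v.2.1
    have h1 := congrArg (fun g : suG B => g.1 y) h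
    simp [tr_apply, symm_one hB hy] at h1
    exact v.2.1 h1
  · rintro - ⟨v, rfl⟩ - ⟨w, rfl⟩
    by_cases h : B v.1 w.1 = 0
    · refine Or.inl ?_
      rw [((tr_commute_iff hB v w).2 h).mul_pow, sq, sq, tr_sq, tr_sq, one_mul]
    · refine Or.inr ?_
      have hb := tr_braid hB h
      calc (tr hB v * tr hB w) ^ 3
          = (tr hB v * tr hB w * tr hB v) * (tr hB w * tr hB v * tr hB w) := by
            simp only [pow_succ, pow_zero, one_mul, mul_assoc]
        _ = 1 := by
          rw [← hb]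
          simp only [← mul_assoc]
          rw [mul_assoc _ (tr hB v) (tr hB v), tr_sq, mul_one, mul_assoc _ (tr hB w) (tr hB w), tr_sq,
            mul_one, tr_sq]

/-- An involution that is not a transvection has a conjugate with product of order four. -/
theorem transvection_or_order_four {g : suG B} (hg : g * g = 1) (hg1 : g ≠ 1) :
    (∃ v, g = tr hB v) ∨ ∃ h : suG B, (g * (h * g * h⁻¹)) ^ 4 = 1 ∧ (g * (h * g * h⁻¹)) ^ 2 ≠ 1 ∧
      (g * (h * g * h⁻¹)) ^ 3 ≠ 1 := by
  have := hB.fin; have := hB.finF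
  have hgg : ∀ x, g.1 (g.1 x) = x := fun x => congrArg (fun g : suG B => g.1 x) hg
  set N : V →ₗ[F] V := (g.1 : V →ₗ[F] V) + LinearMap.id with hN
  have hNa : ∀ x, N x = g.1 x + x := fun x => rfl
  have hN1 : ∀ x y, B (N x) y = B x (N y) := fun x y => by
    simp only [hNa, map_add, LinearMap.add_apply]
    congr 1
    conv_lhs => rw [← hgg y, g.2.1]
  have hN2 : ∀ x, N (N x) = 0 := fun x => by
    simp only [hNa, map_add, hgg]
    rw [add_comm x, vadd_self hB]
  obtain ⟨k, s, f, hfull, hz⟩ := UInv.exists_full hB.herm hN1 hN2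
  have hgx : ∀ x, g.1 x = x + ∑ i, B (f.w i) x • f.w i := fun x => by
    have h1 : N x = ∑ i, B (f.w i) x • f.w i := by
      conv_lhs => rw [← hfull x, f.comb_apply]
      simp [map_sum, f.Nu, f.Nw, hz, UInv.HFr.coord]
    rw [← h1, hNa, add_comm (g.1 x) x, ← add_assoc, vadd_self hB, zero_add]
  have hw0 : ∀ i, f.w i ≠ 0 := fun i h => by
    have := f.uw i i
    rw [h, if_pos rfl] at this
    simp at this
  have hu0 : ∀ i, f.u i ≠ 0 := fun i h => by
    have := f.wu i i
    rw [h, if_pos rfl] at this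
    simp at this
  rcases k with _ | _ | k
  · exact absurd (ext_suG hB fun x => by rw [hgx]; simp) hg1
  · refine Or.inl ⟨⟨f.w 0, hw0 0, f.ww 0 0⟩, ext_suG hB fun x => ?_⟩
    rw [hgx, tr_apply]; simp
  refine Or.inr ?_
  have h01 : (0 : Fin (k + 2)) ≠ 1 := by simp
  set a : Pt B := ⟨f.w 0, hw0 0, f.ww 0 0⟩
  set b : Pt B := ⟨f.w 1, hw0 1, f.ww 1 1⟩
  set u : Pt B := ⟨f.u 1, hu0 1, f.uu 1 1⟩
  have hd0 : f.w 0 + f.w 1 ≠ 0 := fun h => by
    have := congrArg (B (f.u 0)) h
    simp [f.uw] at this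
  have hc0 : f.u 0 + f.u 1 ≠ 0 := fun h => by
    have := congrArg (B (f.w 0)) h
    simp [f.wu] at this
  set c : Pt B := ⟨f.u 0 + f.u 1, hc0, by simp [f.uu]⟩
  set d : Pt B := ⟨f.w 0 + f.w 1, hd0, by simp [f.ww]⟩
  set ta := tr hB a
  set tb := tr hB b
  set r := tb * ta * g with hr
  have hgw : ∀ i, g.1 (f.w i) = f.w i := fun i => by rw [hgx]; simp [f.ww]
  have hgu : ∀ i, g.1 (f.u i) = f.u i + f.w i := fun i => by
    rw [hgx]; simp [f.wu, Finset.sum_ite_eq']
  have hrv : ∀ x, r.1 x = tb.1 (ta.1 (g.1 x)) := fun x => rfl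
  have hab : Commute ta tb := (tr_commute_iff hB a b).2 (f.ww 0 1)
  have hfixa : Commute g ta := commute_of_fix hB g a (hgw 0)
  have hfixb : Commute g tb := commute_of_fix hB g b (hgw 1)
  have hr2 : r * r = 1 := by
    rw [hr, show tb * ta * g * (tb * ta * g) = (tb * ta) * (g * (tb * ta)) * g by simp only [mul_assoc],
      (hfixb.mul_right hfixa).eq]
    simp only [mul_assoc, hg, mul_one]
    rw [← mul_assoc ta, hab.eq, mul_assoc, tr_sq hB a, mul_one, tr_sq hB b]
  have hg' : g = ta * tb * r := by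
    rw [hr]
    simp only [← mul_assoc]
    rw [mul_assoc ta tb tb, tr_sq hB b, mul_one, tr_sq hB a, one_mul]
  have mem : ∀ v, tr hB v ∈ trSet hB := fun v => ⟨v, rfl⟩
  have hne : ta ≠ tb := fun h => by
    obtain ⟨m, hm⟩ := (tr_eq_iff hB a b).1 h
    have := congrArg (B (f.u 1)) hm
    simp [a, b, f.uw] at this
  have hta : ∀ x, ta.1 x = x + B (f.w 0) x • f.w 0 := tr_apply hB a
  have htb : ∀ x, tb.1 x = x + B (f.w 1) x • f.w 1 := tr_apply hB b
  have ra : r.1 a.1 = a.1 := by
    show r.1 (f.w 0) = f.w 0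
    simp [hrv, hta, htb, hgw, f.ww]
  have rb : r.1 b.1 = b.1 := by
    show r.1 (f.w 1) = f.w 1
    simp [hrv, hta, htb, hgw, f.ww]
  have rd : r.1 d.1 = d.1 := by
    show r.1 (f.w 0 + f.w 1) = f.w 0 + f.w 1
    simp [hrv, hta, htb, hgw, f.ww]
  have rc : r.1 c.1 = c.1 := by
    show r.1 (f.u 0 + f.u 1) = f.u 0 + f.u 1
    simp [hrv, hta, htb, hgu, f.ww, f.wu]
    abel_nf
    simp [two_zsmul, vadd_self hB]
  have ru : r.1 u.1 = u.1 := by
    show r.1 (f.u 1) = f.u 1
    simp [hrv, hta, htb, hgu, f.ww, f.wu, add_assoc, vadd_self hB]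
  obtain ⟨h, hh⟩ := exists_conj_order_four (trSet_tri hB) (mem a) (mem b) (mem c) (mem d) (mem u) hab hne
    (fun h => by have := (tr_commute_iff hB a c).1 h; simp [a, c, f.wu] at this)
    (fun h => by have := (tr_commute_iff hB b c).1 h; simp [b, c, f.wu] at this)
    ((tr_commute_iff hB d a).2 (by simp [d, a, f.ww]))
    ((tr_commute_iff hB d b).2 (by simp [d, b, f.ww]))
    ((tr_commute_iff hB d c).2 (by simp [d, c, f.wu, two hB]))
    ((tr_commute_iff hB u a).2 (by simp [u, a, f.uw]))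
    (fun h => by have := (tr_commute_iff hB u b).1 h; simp [u, b, f.uw] at this)
    (fun h => by have := (tr_commute_iff hB u d).1 h; simp [u, d, f.uw] at this)
    (r := r) (commute_of_fix hB r a ra) (commute_of_fix hB r b rb) (commute_of_fix hB r c rc)
    (commute_of_fix hB r d rd) (commute_of_fix hB r u ru) hr2
  rw [← hg'] at hh
  exact ⟨h, hh⟩

/-- Perpendicular to both vectors. -/
def Perp (B : V →ₛₗ[θ] V →ₗ[F] F) (p f v : V) : Prop := B p v = 0 ∧ B f v = 0

theorem Perp.left {p f v : V} (h : Perp B p f v) : B v p = 0 ∧ B v f = 0 :=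
  ⟨(symm_zero hB).1 h.1, (symm_zero hB).1 h.2⟩

theorem perp_lin {p f : V} {k l : F} {v w : V} (hv : Perp B p f v) (hw : Perp B p f w) :
    Perp B p f (k • v + l • w) := by
  constructor <;> simp [hv.1, hv.2, hw.1, hw.2]

/-- A hyperbolic pair. -/
structure Pair (B : V →ₛₗ[θ] V →ₗ[F] F) (p f : V) : Prop where
  pp : B p p = 0
  ff : B f f = 0
  pf : B p f = 1

variable {p f : V} (hP : Pair B p f)
include hP

theorem Pair.fp : B f p = 1 := symm_one hB hP.pf

theorem Pair.symm : Pair B f p := ⟨hP.ff, hP.pp, symm_one hB hP.pf⟩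

theorem Pair.left_ne : p ≠ 0 := fun h => by simpa [h] using hP.pf

theorem Pair.right_ne : f ≠ 0 := fun h => by simpa [h] using hP.pf

/-- The orthonormal basis of the plane. -/
theorem Pair.on : Herm.IsON B ![p + ω • f, p + (ω + 1) • f] := by
  intro i j
  have h1 := om_sq hB
  have h2 := add_self' hB
  have h3 := om_conj hB
  fin_cases i <;> fin_cases j <;>
    simp [hP.pp, hP.ff, hP.pf, hP.fp hB, h3, map_add]
  all_goals (first | linear_combination h2 ω | linear_combination h2 ω + h2 1)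

/-- An orthonormal family perpendicular to the plane can be extended inside the perpendicular. -/
theorem Pair.extend {k : ℕ} (a : Fin k → V) (ha : Herm.IsON B a) (hperp : ∀ i, Perp B p f (a i))
    (hk : k + 2 < finrank F V) :
    ∃ e, Perp B p f e ∧ B e e = 1 ∧ ∀ i, B (a i) e = 0 ∧ B e (a i) = 0 := by
  let b : Fin (k + 2) → V := Fin.append a ![p + ω • f, p + (ω + 1) • f]
  have hb : Herm.IsON B b := by
    intro i j
    refine Fin.addCases (fun i => ?_) (fun i => ?_) i <;>
      refine Fin.addCases (fun j => ?_) (fun j => ?_) j <;>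
      simp only [b, Fin.append_left, Fin.append_right]
    · rw [ha i j]; simp
    · rw [if_neg (fun h => by have := congrArg Fin.val h; simp at this; omega)]
      fin_cases j <;> simp [((hperp i).left hB).1, ((hperp i).left hB).2]
    · rw [if_neg (fun h => by have := congrArg Fin.val h; simp at this; omega)]
      fin_cases i <;> simp [(hperp j).1, (hperp j).2]
    · rw [hP.on hB i j]; simp
  have := hB.fin; have := hB.finF
  obtain ⟨e, he⟩ := exists_snoc hB.herm hb hk
  have hperp' : ∀ i, B (b i) e = 0 := fun i => by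
    have := he i.castSucc (Fin.last _)
    simpa [Fin.snoc_castSucc, Fin.snoc_last] using this
  refine ⟨e, ?_, by simpa using he (Fin.last _) (Fin.last _), fun i => ⟨?_, ?_⟩⟩
  · have e1 := hperp' (Fin.natAdd k (0 : Fin 2))
    have e2 := hperp' (Fin.natAdd k (1 : Fin 2))
    simp [b, om_conj hB] at e1 e2
    have h3 : B f e = 0 := by linear_combination e2 - e1
    refine ⟨?_, h3⟩
    rw [h3, mul_zero, add_zero] at e1
    exact e1
  · simpa [b] using hperp' (Fin.castAdd 2 i)
  · exact (symm_zero hB).1 (by simpa [b] using hperp' (Fin.castAdd 2 i))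

theorem Pair.exists_unit : ∃ m, Perp B p f m ∧ B m m = 1 := by
  obtain ⟨e, h1, h2, -⟩ := hP.extend hB (k := 0) (fun i => Fin.elim0 i) (fun i => Fin.elim0 i) (fun i => Fin.elim0 i)
    (by have := hB.five; omega)
  exact ⟨e, h1, h2⟩

theorem Pair.exists_unit_perp {m : V} (hm : Perp B p f m) (hmm : B m m = 1) :
    ∃ e, Perp B p f e ∧ B e e = 1 ∧ B m e = 0 ∧ B e m = 0 := by
  obtain ⟨e, h1, h2, h3⟩ := hP.extend hB (k := 1) ![m]
    (fun i j => by fin_cases i; fin_cases j; simpa using hmm) (fun i => by fin_cases i; simpa using hm)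
    (by have := hB.five; omega)
  exact ⟨e, h1, h2, by simpa using h3 0⟩

/-- For a unit vector of the perpendicular, an isotropic one with prescribed product. -/
theorem Pair.exists_iso {m : V} (hm : Perp B p f m) (hmm : B m m = 1) {c : F} (hc : c ≠ 0) :
    ∃ v, Perp B p f v ∧ v ≠ 0 ∧ B v v = 0 ∧ B v m = c := by
  obtain ⟨e, he, hee, hme, hem⟩ := hP.exists_unit_perp hB hm hmm
  refine ⟨θ c • m + θ c • e, perp_lin hB hm he, fun h => hc ?_, ?_, ?_⟩
  · have := congrArg (fun v => B v m) h
    simpa [hmm, hem, hB.herm.invol] using this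
  · simp only [map_add, map_smul, map_smulₛₗ, LinearMap.add_apply, LinearMap.smul_apply, smul_eq_mul,
      hmm, hee, hem, hme, hB.herm.invol, mul_zero, add_zero, zero_add, mul_one]
    linear_combination add_self' hB (θ c * c)
  · simp [hmm, hem, hB.herm.invol]

/-- A partner of an isotropic vector of the perpendicular and a unit vector perpendicular to all. -/
theorem Pair.exists_frame {m : V} (hm : Perp B p f m) (hm0 : m ≠ 0) (hmm : B m m = 0) :
    ∃ m' q, Perp B p f m' ∧ Pair B m m' ∧ Perp B p f q ∧ Perp B m m' q ∧ B q q = 1 := by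
  obtain ⟨y, hy⟩ := exists_pair hB hm0
  set y₀ := y + B f y • p + B p y • f with hy₀
  have hp : Perp B p f y₀ := by
    constructor <;> simp [hy₀, hP.pp, hP.ff, hP.pf, hP.fp hB, add_self' hB]
  have hy1 : B y₀ m = 1 := by simp [hy₀, hm.1, hm.2, hy]
  obtain ⟨m', hp', hpair⟩ : ∃ m', Perp B p f m' ∧ Pair B m m' := by
    rcases self_cases hB y₀ with h | h
    · exact ⟨y₀, hp, hmm, h, symm_one hB hy1⟩
    · refine ⟨y₀ + ω • m, ⟨by simp [hp.1, hm.1], by simp [hp.2, hm.2]⟩, hmm, ?_, ?_⟩
      · simp [h, hy1, symm_one hB hy1, hmm, om_conj hB]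
        linear_combination add_self' hB (1 : F) + add_self' hB ω
      · simp [symm_one hB hy1, hmm]
  obtain ⟨q, hq, hqq, hq'⟩ := hP.extend hB (k := 2) ![m + ω • m', m + (ω + 1) • m'] (hpair.on hB)
    (fun i => by
      fin_cases i
      · simpa using perp_lin hB (k := 1) (l := ω) hm hp'
      · simpa using perp_lin hB (k := 1) (l := ω + 1) hm hp')
    (by have := hB.five; omega)
  refine ⟨m', q, hp', hpair, hq, ?_, hqq⟩
  have e1 := (hq' 0).1
  have e2 := (hq' 1).1
  simp [om_conj hB] at e1 e2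
  have h3 : B m' q = 0 := by linear_combination e2 - e1
  refine ⟨?_, h3⟩
  rw [h3, mul_zero, add_zero] at e1
  exact e1

end Cfsg.Agent.TransUnique.UG
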