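import Cfsg.Agent.TransUnique.U.Abelian

/-!
# The rotations in dimension five

The element fixing a unit vector line and scalar on its perpendicular has no nontrivial fixed
element in the kernel.
-/

set_option autoImplicit false
set_option linter.unusedSectionVars false

open Cfsg Cfsg.Agent.Classical Cfsg.Agent.Classical.Herm Module
open scoped IsMulCommutative

namespace Cfsg.Agent.TransUnique.UG

variable {F V : Type*} [Field F] [AddCommGroup V] [Module F V] {θ : F →+* F}
  {B : V →ₛₗ[θ] V →ₗ[F] F}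

/-- A hyperbolic pair and three unit vectors, perpendicular to each other. -/
structure Fr (B : V →ₛₗ[θ] V →ₗ[F] F) (p f n e q : V) : Prop where
  pair : Pair B p f
  hn : Perp B p f n
  he : Perp B p f e
  hq : Perp B p f q
  nn : B n n = 1
  ee : B e e = 1
  qq : B q q = 1
  ne : B n e = 0
  nq : B n q = 0
  eq' : B e q = 0

section Space

variable (hB : USp B) (h5 : finrank F V = 5)
include hB h5

theorem Fr.expand {p f n e q : V} (h : Fr B p f n e q) (x : V) :
    ∃ a b c d k : F, x = a • p + b • f + c • n + d • e + k • q := by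
  have := hB.fin; have := hB.finF
  set v : Fin 5 → V := ![p + om hB • f, p + (om hB + 1) • f, n, e, q] with hv
  obtain ⟨hP, hn, he, hq, nn, ee, qq, ne, nq, eq'⟩ := h
  have en := (symm_zero hB).1 ne
  have qn := (symm_zero hB).1 nq
  have qe := (symm_zero hB).1 eq'
  have on := hP.on hB
  have hON : Herm.IsON B v := by
    intro i j
    have h00 := on 0 0
    have h01 := on 0 1
    have h10 := on 1 0
    have h11 := on 1 1
    simp at h00 h01 h10 h11
    fin_cases i <;> fin_cases j <;>
      simp [hv, hn.1, hn.2, he.1, he.2, hq.1, hq.2, (hn.left hB).1, (hn.left hB).2, (he.left hB).1,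
        (he.left hB).2, (hq.left hB).1, (hq.left hB).2, nn, ee, qq, ne, nq, eq', en, qn, qe, h00, h01,
        h10, h11]
  have hspan : Submodule.span F (Set.range v) = ⊤ :=
    (hON.linearIndependent hB.herm).span_eq_top_of_card_eq_finrank' (by rw [Fintype.card_fin, h5])
  obtain ⟨c, hc⟩ := (Submodule.mem_span_range_iff_exists_fun F).1 (hspan ▸ Submodule.mem_top : x ∈ _)
  refine ⟨c 0 + c 1, c 0 * om hB + c 1 * (om hB + 1), c 2, c 3, c 4, ?_⟩
  rw [← hc]
  simp [Fin.sum_univ_five, hv]
  module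

theorem exists_fr_of_two {q n : V} (hqq : B q q = 1) (hnn : B n n = 1) (hqn : B q n = 0) :
    ∃ p f e, Fr B p f n e q := by
  have := hB.fin; have := hB.finF
  have hON : Herm.IsON B ![q, n] := fun i j => by
    fin_cases i <;> fin_cases j <;> simp [hqq, hnn, hqn, (symm_zero hB).1 hqn]
  obtain ⟨b, hb, hba⟩ := Herm.exists_extend hB.herm 3 (k := 2) (by omega) hON
  have e0 : b 0 = q := hba 0
  have e1 : b 1 = n := hba 1
  refine ⟨b 2 + b 3, om hB • b 2 + (om hB + 1) • b 3, b 4, ?_⟩
  have hc := charTwo hB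
  subst e0 e1
  constructor
  · constructor
    · simp [hb _ _, Fin.ext_iff]; exact UG.two hB
    · simp [hb _ _, Fin.ext_iff, om_conj hB]; grind
    · simp [hb _ _, Fin.ext_iff]; grind
  all_goals first
    | (constructor <;> simp [hb _ _, Fin.ext_iff])
    | simp [hb _ _, Fin.ext_iff]

theorem exists_fr_of_one {q : V} (hqq : B q q = 1) : ∃ p f n e, Fr B p f n e q := by
  have := hB.fin; have := hB.finF
  have hON : Herm.IsON B ![q] := fun i j => by fin_cases i; fin_cases j; simpa using hqq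
  obtain ⟨n, hn⟩ := Herm.exists_snoc hB.herm hON (by omega)
  have h1 := hn (Fin.castSucc 0) (Fin.last 1)
  have h2 := hn (Fin.last 1) (Fin.last 1)
  rw [Fin.snoc_castSucc, Fin.snoc_last, if_neg (by simp)] at h1
  rw [Fin.snoc_last, if_pos rfl] at h2
  simp at h1
  obtain ⟨p, f, e, h⟩ := exists_fr_of_two hB h5 hqq h2 h1
  exact ⟨p, f, n, e, h⟩

/-- A frame through a given isotropic vector perpendicular to `q`. -/
theorem exists_fr_of_point {p q : V} (hp : p ≠ 0) (hpp : B p p = 0) (hqq : B q q = 1)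
    (hqp : B q p = 0) : ∃ f n e, Fr B p f n e q := by
  have hc := charTwo hB
  obtain ⟨y, hy⟩ := exists_pair hB hp
  replace hy := symm_one hB hy
  have hpq := (symm_zero hB).1 hqp
  set y' := y + B q y • q with hy'
  have h1 : B p y' = 1 := by simp [hy', hy, hpq]
  have h2 : B q y' = 0 := by simp [hy', hqq, CharTwo.add_self_eq_zero]
  obtain ⟨f, hP, hqf⟩ : ∃ f, Pair B p f ∧ B q f = 0 := by
    rcases self_cases hB y' with h | h
    · exact ⟨y', ⟨hpp, h, h1⟩, h2⟩
    · refine ⟨y' + om hB • p, ⟨hpp, ?_, by simp [h1, hpp]⟩, by simp [h2, hqp]⟩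
      simp [h, hpp, h1, symm_one hB h1, om_conj hB]
      grind
  have hfq := (symm_zero hB).1 hqf
  obtain ⟨n, hn, hnn, hn'⟩ := hP.extend hB (k := 1) ![q]
    (fun i j => by fin_cases i; fin_cases j; simpa using hqq)
    (fun i => by fin_cases i; exact ⟨hpq, hfq⟩) (by omega)
  have hqn := (hn' 0).1
  have hnq := (hn' 0).2
  simp at hqn hnq
  obtain ⟨e, he, hee, he'⟩ := hP.extend hB (k := 2) ![n, q]
    (fun i j => by fin_cases i <;> fin_cases j <;> simp [hnn, hqq, hqn, hnq])
    (fun i => by fin_cases i; exacts [hn, ⟨hpq, hfq⟩]) (by omega)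
  exact ⟨f, n, e, hP, hn, he, ⟨hpq, hfq⟩, hnn, hee, hqq, by simpa using (he' 0).1, hnq,
    by simpa using (he' 1).2⟩

end Space

variable {G : Type*} [Group G] [Finite G] {D : Set G} {π : G →* suG B}

/-- The image is the scalar `ω` on the perpendicular of `q` and `ω + 1` on `q`. -/
def IsRot (hB : USp B) (π : G →* suG B) (q : V) (g : G) : Prop :=
  ∀ x, (π g).1 x = om hB • x + B q x • q

theorem IsRot.eq (hB : USp B) {q : V} {g g' : G} (h : IsRot hB π q g) (h' : IsRot hB π q g') :
    π g = π g' := ext_suG hB fun x => (h x).trans (h' x).symm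

variable (C : Cover D π)
include C

/-- Members over one point are conjugate under the kernel. -/
theorem Cover.mate (hcore : pCore 2 G ≤ π.ker) {d e : G} (hd : d ∈ D) (he : e ∈ D) {v : Pt B}
    (hv : π d = tr C.sp v) (hw : π e = tr C.sp v) : ∃ y, π y = 1 ∧ y * d * y⁻¹ = e := by
  have h2 : ∃ a ∈ D, ∃ b ∈ D, a ≠ b := by
    obtain ⟨y, hy⟩ := exists_pair C.sp v.2.1
    obtain ⟨f, hP⟩ := exists_partner_pair C.sp v.2.1 v.2.2
    obtain ⟨b, hb, hbv⟩ := C.exists_member ⟨f, hP.right_ne C.sp, hP.ff⟩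
    exact ⟨d, hd, b, hb, fun h => C.not_commute hv hbv (by simp [hP.pf]) (h ▸ Commute.refl b)⟩
  have hmem : e ∈ {x : G | x ∈ D ∧ ∀ z ∈ D, Commute x z ↔ Commute d z} := by
    refine ⟨he, fun z hz => ?_⟩
    obtain ⟨u, hu⟩ := C.exists_point hz
    by_cases h : B v.1 u.1 = 0
    · exact iff_of_true (C.commute he hz hw hu h) (C.commute hd hz hv hu h)
    · exact iff_of_false (C.not_commute hw hu h) (C.not_commute hv hu h)
  rw [(S5349.result C.cls h2 hd).2] at hmem
  obtain ⟨g, hg, rfl⟩ := hmem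
  exact ⟨g, hcore hg, rfl⟩

omit C
variable {W : Subgroup G} [W.Normal] [IsMulCommutative W] (S : Sect D π W)
include S

/-- The element of a triangle: scalar `ω` on `p`, `f`, `m` and trivial on the perpendicular. -/
theorem Sect.exists_triangle {p f m : V} (hP : Pair B p f) (hm : Perp B p f m) (hmm : B m m = 1) :
    ∃ g : G, (∀ x, (π g).1 x =
        x + (om S.cov.sp + 1) • (B f x • p + B p x • f + B m x • m)) ∧
      (∀ u, InA S p u → rep W g u = kap S p f m u) ∧
      ∀ a : G, (∀ d ∈ D, ∀ v : Pt B, π d = tr S.cov.sp v →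
        (v.1 = p ∨ v.1 = f ∨ v.1 = f + om S.cov.sp • p + m) → Commute d a) → Commute g a := by
  have hB := S.cov.sp
  have hc := charTwo hB
  set z := f + om hB • p + m with hz
  have hzz : B z z = 0 := S.kap_iso hP hm hmm
  have hpz : B p z = 1 := by simp [hz, hP.pf, hP.pp, hm.1]
  have hfz : B f z ≠ 0 := by
    simp [hz, hP.ff, hP.fp hB, hm.2]
    exact om_ne hB
  have hz0 : z ≠ 0 := fun h => hfz (by rw [h, map_zero])
  set vp : Pt B := ⟨p, hP.left_ne hB, hP.pp⟩
  set vf : Pt B := ⟨f, hP.right_ne hB, hP.ff⟩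
  set vz : Pt B := ⟨z, hz0, hzz⟩
  obtain ⟨d, hd, ed⟩ := S.cov.exists_member vp
  obtain ⟨x, hx, ex⟩ := S.cov.exists_member vf
  obtain ⟨y, hy, ey⟩ := S.cov.exists_member vz
  refine ⟨x * y * (x * d) * (y * x) * (d * x), fun v => ?_, fun u hu => ?_, fun a ha => ?_⟩
  · have hact : (π (x * y * (x * d) * (y * x) * (d * x))).1 v =
        (tr hB vf).1 ((tr hB vz).1 ((tr hB vf).1 ((tr hB vp).1 ((tr hB vz).1 ((tr hB vf).1
          ((tr hB vp).1 ((tr hB vf).1 v))))))) := by
      simp only [map_mul, ed, ex, ey]; rfl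
    rw [hact]
    simp [tr_apply, vp, vf, vz, hz, hP.pp, hP.ff, hP.pf, hP.fp hB, hm.1, hm.2, (hm.left hB).1,
      (hm.left hB).2, hmm, om_conj hB]
    match_scalars
    all_goals grind [om_sq hB]
  · have hpf : B p f ≠ 0 := by rw [hP.pf]; exact one_ne_zero
    have hXX : ∀ w, A S f (A S f w) = 0 := fun w => S.A_sq f w
    have hZZ : ∀ w, A S z (A S z w) = 0 := fun w => S.A_sq z w
    have hXZX : ∀ w, A S f (A S z (A S f w)) = A S f w := fun w => S.A_ncomm hP.ff hzz hfz w
    have rd : ∀ w, rep W d w = A S p w + w := fun w => S.rho_member hd ed w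
    have rx : ∀ w, rep W x w = A S f w + w := fun w => S.rho_member hx ex w
    have ry : ∀ w, rep W y w = A S z w + w := fun w => S.rho_member hy ey w
    have hu0 : A S p u = 0 := S.in_kill hP.pp hu
    have hPX : A S p (A S f u) = u := S.in_fix hP.pp hP.ff hpf hu
    set J := kap S p f m with hJ
    have hsw : ∀ v, InA S p v → A S p (A S z (A S f v)) = J v + v :=
      fun v hv => S.kap_swap hP hm hmm hv
    have hJin : InA S p (J u) := S.in_kap
    have hJJ : J (J u) = J u + u := by
      apply S.rel.eq_of_add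
      rw [← add_assoc]
      exact S.kap_quad hP hm hmm hu
    have hzp : B z p ≠ 0 := by rw [symm_one hB hpz]; exact one_ne_zero
    have hfp : B f p ≠ 0 := by rw [hP.fp hB]; exact one_ne_zero
    have hZXP : ∀ v, InA S p v → A S z (A S f v) = A S z (J v + v) := fun v hv => by
      rw [← hsw v hv, S.A_ncomm hzz hP.pp hzp]
    have hXZP : A S f (A S z (J u)) = A S f (J u) + A S f u := by
      rw [← map_add, ← hJJ]
      show _ = A S f (A S p (A S f (A S z (J u))))
      rw [S.A_ncomm hP.ff hP.pp hfp]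
    have t2 : ∀ v : Additive W, (2 : ℤ) • v = 0 := fun v => by rw [two_zsmul, S.two]
    have t3 : ∀ v : Additive W, (3 : ℤ) • v = v := fun v => by
      rw [show (3 : ℤ) = 2 + 1 from rfl, add_zsmul, t2, one_zsmul, zero_add]
    have t4 : ∀ v : Additive W, (4 : ℤ) • v = 0 := fun v => by
      rw [show (4 : ℤ) = 2 + 2 from rfl, add_zsmul, t2, zero_add]
    have t6 : ∀ v : Additive W, (6 : ℤ) • v = 0 := fun v => by
      rw [show (6 : ℤ) = 4 + 2 from rfl, add_zsmul, t2, t4, zero_add]
    -- the last three factors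
    have s1 : rep W (d * x) u = A S f u := by
      rw [rho_mul_apply, rx, rd, map_add, hPX, hu0]
      abel_nf; simp [t2, t3]
    have s2 : rep W (y * x) (A S f u) = A S z (A S f u) + A S f u := by
      rw [rho_mul_apply, rx, hXX, zero_add, ry]
    have s3 : rep W (x * d) (A S z (A S f u) + A S f u) =
        A S f (J u) + J u + A S z (A S f u) := by
      rw [rho_mul_apply, rd, map_add (A S p), hsw u hu, hPX, rx]
      simp only [map_add, hXZX, hXX]
      abel_nf; simp [t2, t3, t4]
    have s4 : rep W (x * y) (A S f (J u) + J u + A S z (A S f u)) = J u := by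
      rw [rho_mul_apply, ry, rx]
      simp only [map_add, hXZX, hXX, hZZ, hXZP, hZXP u hu, hZXP _ hJin, hJJ]
      abel_nf; simp [t2, t3, t4, t6]
    rw [rho_mul_apply, s1, rho_mul_apply, s2, rho_mul_apply, s3, s4]
  · have c1 := ha d hd vp ed (Or.inl rfl)
    have c2 := ha x hx vf ex (Or.inr (Or.inl rfl))
    have c3 := ha y hy vz ey (Or.inr (Or.inr rfl))
    exact (((c2.mul_left c3).mul_left (c2.mul_left c1)).mul_left (c3.mul_left c2)).mul_left
      (c1.mul_left c2)

variable (h5 : finrank F V = 5)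
include h5

/-- A rotation acts on the image of `A p` as the triangle map. -/
theorem Sect.exists_rot {p f n e q : V} (hF : Fr B p f n e q) :
    ∃ g : G, IsRot S.cov.sp π q g ∧ ∀ u, InA S p u → rep W g u = kap S p f n u := by
  have hB := S.cov.sp
  have hc := charTwo hB
  obtain ⟨hP, hn, he, hq, nn, ee, qq, ne, nq, eq'⟩ := id hF
  obtain ⟨g₁, i₁, a₁, -⟩ := S.exists_triangle hP hn nn
  obtain ⟨g₂, i₂, a₂, -⟩ := S.exists_triangle hP he ee
  obtain ⟨g₃, i₃, a₃, -⟩ := S.exists_triangle hP hq qq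
  refine ⟨g₁ * g₂ * (g₃ * g₃), fun x => ?_, fun u hu => ?_⟩
  · obtain ⟨a, b, c, d, k, rfl⟩ := hF.expand hB h5 x
    have hact : ∀ v, (π (g₁ * g₂ * (g₃ * g₃))).1 v = (π g₁).1 ((π g₂).1 ((π g₃).1 ((π g₃).1 v))) :=
      fun v => by simp only [map_mul]; rfl
    rw [hact, i₃, i₃, i₂, i₁]
    simp [hP.pp, hP.ff, hP.pf, hP.fp hB, hn.1, hn.2, he.1, he.2, hq.1, hq.2, (hn.left hB).1,
      (hn.left hB).2, (he.left hB).1, (he.left hB).2, (hq.left hB).1, (hq.left hB).2, nn, ee, qq, ne,
      nq, eq', (symm_zero hB).1 ne, (symm_zero hB).1 nq, (symm_zero hB).1 eq']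
    match_scalars
    all_goals grind [om_sq hB]
  · have t : ∀ v, InA S p v → kap S p f n (kap S p f n v) = kap S p f n v + v := fun v hv => by
      apply S.rel.eq_of_add
      rw [← add_assoc]
      exact S.kap_quad hP hn nn hv
    have o2 : ∀ v, InA S p v → kap S p f e v = kap S p f n v := fun v hv =>
      (S.kap_orth hP hn nn he ee ne hv).symm
    have o3 : ∀ v, InA S p v → kap S p f q v = kap S p f n v := fun v hv =>
      (S.kap_orth hP hn nn hq qq nq hv).symm
    rw [rho_mul_apply, rho_mul_apply (rep W) g₃, a₃ u hu, a₃ _ S.in_kap, rho_mul_apply, a₂ _ S.in_kap,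
      a₁ _ S.in_kap, o3 _ S.in_kap, o3 u hu, o2 _ S.in_kap]
    simp only [t u hu, S.kap_add]
    rw [show kap S p f n u + u + kap S p f n u + (kap S p f n u + u) = kap S p f n u +
      ((kap S p f n u + kap S p f n u) + (u + u)) by abel, S.two, S.two, add_zero, add_zero]

theorem Sect.exists_lift_rot {q : V} (hqq : B q q = 1) : ∃ g : G, IsRot S.cov.sp π q g := by
  obtain ⟨p, f, n, e, hF⟩ := exists_fr_of_one S.cov.sp h5 hqq
  obtain ⟨g, hg, -⟩ := S.exists_rot h5 hF
  exact ⟨g, hg⟩

omit h5 in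
theorem Sect.rep_congr {g h : G} (he : π g = π h) (m : Additive W) : rep W g m = rep W h m := by
  rw [show g = h * (h⁻¹ * g) by group, rho_mul_apply,
    S.ker_fix (by rw [map_mul, map_inv, he, inv_mul_cancel]) m]

/-- An element of the kernel commuting with a rotation commutes with the members over the points
perpendicular to its vector. -/
theorem Sect.commute_perp (hab : ∀ a b, π a = 1 → π b = 1 → Commute a b) {q : V} (hqq : B q q = 1)
    {g a : G} (hg : IsRot S.cov.sp π q g) (ha : π a = 1) (hga : Commute g a) {d : G} (hd : d ∈ D)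
    {x : Pt B} (hx : π d = tr S.cov.sp x) (hqx : B q x.1 = 0) : Commute d a := by
  have hB := S.cov.sp
  have C := S.cov
  set α := d * (a * d * a⁻¹) with hα
  have hαW : α ∈ W := by
    rw [← S.mates]; exact Subgroup.subset_closure ⟨d, hd, a, ha, rfl⟩
  set w : Additive W := Additive.ofMul ⟨α, hαW⟩ with hw
  obtain ⟨f, n, e, hF⟩ := exists_fr_of_point hB h5 x.2.1 x.2.2 hqq hqx
  have hlift : IsLift W D d w := by
    show d * (d * (a * d * a⁻¹)) ∈ D
    rw [← mul_assoc, C.sq hd, one_mul]
    exact C.conj a hd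
  obtain ⟨c, hc, hdc⟩ := ThreeTrans.exists_not_commute C.cls S.two_points hd
  have hin : InA S x.1 w :=
    ⟨op (rep W) c w, by rw [S.A_member hd hx]; exact (C.lift_star S.exp hd hc hdc hlift).symm⟩
  -- the rotation fixes it
  have hxx : (π g).1 x.1 = om hB • x.1 := by rw [hg, hqx, zero_smul, add_zero]
  have hd' : π (g * d * g⁻¹) = tr hB x := by
    obtain ⟨u, hu⟩ := exists_image hB (π g) x
    rw [C.conj_point g hx hu]
    exact ((tr_eq_iff hB x u).2 ⟨om hB, hu.trans hxx⟩).symm
  obtain ⟨y, hy, hy'⟩ := C.mate S.core hd (C.conj g hd) hx hd'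
  have hfix : rep W g w = w := by
    apply Additive.toMul.injective
    apply Subtype.ext
    show g * α * g⁻¹ = α
    have hαk : π α = 1 := MonoidHom.mem_ker.1 (S.le hαW)
    calc g * α * g⁻¹ = (g * d * g⁻¹) * ((g * a * g⁻¹) * (g * d * g⁻¹) * (g * a * g⁻¹)⁻¹) := by
          rw [hα]; group
      _ = y * d * y⁻¹ * (a * y * d * y⁻¹ * a⁻¹) := by
          rw [← hy', hga.eq, mul_inv_cancel_right]; group
      _ = y * d * y⁻¹ * (y * a * d * (y⁻¹ * a⁻¹)) := by
          rw [(hab a y ha hy).eq]; group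
      _ = y * α * y⁻¹ := by rw [hα, ← mul_inv_rev a y, (hab a y ha hy).eq]; group
      _ = α := by rw [(hab y α hy hαk).eq, mul_inv_cancel_right]
  obtain ⟨g', hg', hact⟩ := S.exists_rot h5 hF
  rw [S.rep_congr (hg.eq hB hg'), hact w hin] at hfix
  have hq := S.kap_quad hF.pair hF.hn hF.nn hin
  rw [hfix, hfix, S.two, zero_add] at hq
  have h1 : α = 1 := congrArg (fun t : Additive W => ((Additive.toMul t : W) : G)) hq
  have h2 : a * d * a⁻¹ = d := by
    rw [hα] at h1
    rw [eq_inv_of_mul_eq_one_right h1, C.inv hd]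
  exact (mul_inv_eq_iff_eq_mul.1 h2).symm

/-- No element of the kernel but the identity commutes with a rotation. -/
theorem Sect.fix_rot (hab : ∀ a b, π a = 1 → π b = 1 → Commute a b) (hZ : Subgroup.center G = ⊥)
    {q : V} (hqq : B q q = 1) {g a : G} (hg : IsRot S.cov.sp π q g) (ha : π a = 1)
    (hga : Commute g a) : a = 1 := by
  have hB := S.cov.sp
  have hc := charTwo hB
  have C := S.cov
  suffices h : ∀ d ∈ D, Commute d a by
    have : a ∈ Subgroup.center G := Subgroup.mem_center_iff.2 fun z =>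
      (ThreeTrans.commute_all C.cls.2.2 (fun d hd => (h d hd).symm) z).eq.symm
    rwa [hZ, Subgroup.mem_bot] at this
  intro d hd
  obtain ⟨x, hx⟩ := C.exists_point hd
  by_cases hqx : B q x.1 = 0
  · exact S.commute_perp h5 hab hqq hg ha hga hd hx hqx
  set k := (B q x.1)⁻¹ with hk
  have hk0 : k ≠ 0 := inv_ne_zero hqx
  set x' : Pt B := ⟨k • x.1, smul_ne_zero hk0 x.2.1, by simp [x.2.2]⟩ with hx'
  have hxx' : π d = tr hB x' := hx.trans ((tr_eq_iff hB x x').2 ⟨k, rfl⟩)
  have hq1 : B q x'.1 = 1 := by simp [hx', hk, hqx]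
  set n := x'.1 + q with hn
  have hnn : B n n = 1 := by
    simp [hn, x'.2.2, hqq, hq1, symm_one hB hq1]
    grind
  have hqn : B q n = 0 := by rw [hn, map_add, hq1, hqq, UG.two hB]
  obtain ⟨p, f, e, hF⟩ := exists_fr_of_two hB h5 hqq hnn hqn
  obtain ⟨hP, hn', he, hq, nn, ee, qq, ne, nq, eq'⟩ := id hF
  obtain ⟨T, iT, -, cT⟩ := S.exists_triangle hP hn' nn
  have hTa : Commute T a := cT a fun c hc v hv hcase => by
    refine S.commute_perp h5 hab hqq hg ha hga hc hv ?_
    rcases hcase with h | h | h <;> rw [h] <;> simp [(hq.left hB).1, (hq.left hB).2, hqn]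
  obtain ⟨ge, hge⟩ := S.exists_lift_rot h5 ee
  have hker : π (g * T * ge) = 1 := ext_suG hB fun v => by
    obtain ⟨a, b, c, d, k, rfl⟩ := hF.expand hB h5 v
    have hact : ∀ w, (π (g * T * ge)).1 w = (π g).1 ((π T).1 ((π ge).1 w)) := fun w => by
      simp only [map_mul]; rfl
    rw [hact, hge, iT, hg]
    show _ = a • p + b • f + c • n + d • e + k • q
    simp [hP.pp, hP.ff, hP.pf, hP.fp hB, hn'.1, hn'.2, he.1, he.2, hq.1, hq.2, (hn'.left hB).1,
      (hn'.left hB).2, (he.left hB).1, (he.left hB).2, (hq.left hB).1, (hq.left hB).2, nn, ee, qq, ne,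
      nq, eq', (symm_zero hB).1 ne, (symm_zero hB).1 nq, (symm_zero hB).1 eq']
    match_scalars
    all_goals grind [om_sq hB]
  have hea : Commute ge a := by
    rw [show ge = (g * T)⁻¹ * (g * T * ge) by group]
    exact (hga.mul_left hTa).inv_left.mul_left (hab _ _ hker ha)
  have hex : B e x'.1 = 0 := by
    rw [show x'.1 = n + q by rw [hn, add_assoc, vadd_self hB, add_zero], map_add,
      (symm_zero hB).1 ne, eq', add_zero]
  exact S.commute_perp h5 hab ee hge ha hea hd hxx' hex

end Cfsg.Agent.TransUnique.UG
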